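import Cfsg.Agent.Lib.ThreeTransp.Basic

/-!
A group generated by a class of 3-transpositions, with trivial centre, over a normal 2-subgroup: the
commutator spaces of the members commute as soon as, for any two members, the members commuting
with one of them generate the quotient; the round identity; products of commuting members lying in
the radical.
-/

set_option autoImplicit false
set_option linter.unusedSectionVars false
set_option linter.style.haveILetI false

open Cfsg
open scoped commutatorElement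

namespace CfsgLib.ThreeTransp.TwoRadical

variable {G Q : Type*} [Group G] [Group Q] [Finite G]

/-- The standing hypotheses. -/
structure Setup (π : G →* Q) (D : Set G) : Prop where
  cls : IsThreeTranspositionClass D
  surj : Function.Surjective π
  pker : IsPGroup 2 π.ker
  centre : Subgroup.center G = ⊥

/-- The commutator set of `d` on the kernel. -/
def W (π : G →* Q) (d : G) : Set G := {w | ∃ v ∈ π.ker, v * d * v⁻¹ * d = w}

variable {π : G →* Q} {D : Set G} (S : Setup π D)
include S

theorem Setup.set : IsThreeTranspositionSet D := S.cls.1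

theorem Setup.inv_eq {d : G} (hd : d ∈ D) : d⁻¹ = d := inv_eq_self S.set hd

theorem Setup.self {d : G} (hd : d ∈ D) : d * d = 1 := mul_self_eq_one S.set hd

theorem Setup.conj {d : G} (hd : d ∈ D) (g : G) : g * d * g⁻¹ ∈ D := class_conjClosed S.cls g d hd

theorem Setup.comm_of_map {a b : G} (ha : a ∈ D) (hb : b ∈ D) (h : Commute (π a) (π b)) :
    Commute a b := by
  rcases eq_or_commute_of_map_commute π S.set ha hb h with h' | h'
  · obtain ⟨k, hk⟩ := S.pker ⟨a * b, by
      rw [MonoidHom.mem_ker, map_mul, h', ← map_mul, S.self hb, map_one]⟩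
    exact commute_of_mul_pow_two_pow S.set ha hb (by simpa using congrArg Subtype.val hk)
  · exact h'

omit S in
theorem map_ker_conj {v : G} (hv : v ∈ π.ker) (x : G) : π (v * x * v⁻¹) = π x := by
  rw [MonoidHom.mem_ker] at hv
  simp [hv]

theorem Setup.W_map {d : G} (hd : d ∈ D) {w : G} (hw : w ∈ W π d) : w ∈ π.ker := by
  obtain ⟨v, hv, rfl⟩ := hw
  rw [MonoidHom.mem_ker, map_mul, map_ker_conj hv, ← map_mul, S.self hd, map_one]

theorem Setup.W_mul {d : G} (hd : d ∈ D) {w : G} (hw : w ∈ W π d) :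
    w * d ∈ D ∧ π (w * d) = π d := by
  obtain ⟨v, hv, rfl⟩ := hw
  rw [mul_assoc, S.self hd, mul_one]
  exact ⟨S.conj hd v, map_ker_conj hv d⟩

/-- The commutator set of a member is centralised by the members commuting with it. -/
theorem Setup.W_comm {d g : G} (hd : d ∈ D) (hg : g ∈ D) (h : Commute (π g) (π d)) {w : G}
    (hw : w ∈ W π d) : Commute g w := by
  obtain ⟨h1, h2⟩ := S.W_mul hd hw
  have e1 : Commute g (w * d) := S.comm_of_map hg h1 (h2.symm ▸ h)
  have e2 : Commute g d := S.comm_of_map hg hd h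
  have := e1.mul_right e2
  rwa [mul_assoc, S.self hd, mul_one] at this

theorem Setup.W_self {d : G} (hd : d ∈ D) {w : G} (hw : w ∈ W π d) : Commute d w :=
  S.W_comm hd hd (Commute.refl _) hw

theorem Setup.W_sq {d : G} (hd : d ∈ D) {w : G} (hw : w ∈ W π d) : w * w = 1 := by
  have h := S.self (S.W_mul hd hw).1
  calc w * w = w * (d * d) * w := by rw [S.self hd, mul_one]
    _ = w * d * (d * w) := by group
    _ = 1 := by rw [(S.W_self hd hw).eq, h]

theorem Setup.W_inv {d : G} (hd : d ∈ D) {w : G} (hw : w ∈ W π d) : w⁻¹ = w :=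
  inv_eq_of_mul_eq_one_right (S.W_sq hd hw)

theorem Setup.W_W {d f : G} (hd : d ∈ D) (hf : f ∈ D) (h : Commute (π d) (π f)) {w u : G}
    (hw : w ∈ W π d) (hu : u ∈ W π f) : Commute w u := by
  have e1 : Commute d u := S.W_comm hf hd h hu
  obtain ⟨h1, h2⟩ := S.W_mul hd hw
  have e2 : Commute (w * d) u := S.W_comm hf h1 (h2.symm ▸ h) hu
  have := e2.mul_left e1
  rwa [mul_assoc, S.self hd, mul_one] at this

theorem Setup.W_conj {d : G} (g : G) {w : G} (hw : w ∈ W π d) :
    g * w * g⁻¹ ∈ W π (g * d * g⁻¹) := by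
  obtain ⟨v, hv, rfl⟩ := hw
  exact ⟨g * v * g⁻¹, Subgroup.Normal.conj_mem inferInstance v hv g, by group⟩

/-- Conjugation by a member changes a kernel element by an element of its commutator set. -/
theorem Setup.conj_ker {g : G} (hg : g ∈ D) {x : G} (hx : x ∈ π.ker) :
    ∃ w ∈ W π g, g * x * g = x * w := by
  refine ⟨x⁻¹ * g * x⁻¹⁻¹ * g, ⟨x⁻¹, inv_mem hx, rfl⟩, ?_⟩
  group

theorem Setup.free {d f : G} (hd : d ∈ D) (hf : f ∈ D) (h : ¬ Commute (π d) (π f)) {w : G}
    (hw : w ∈ W π d) (hc : Commute f w) : w = 1 := by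
  obtain ⟨hwd, hmap⟩ := S.W_mul hd hw
  have h1 : (w * d * f) ^ 3 = 1 := mul_pow_three_of_not_commute S.set hwd hf fun e => h (by
    have := e.map π
    rwa [hmap] at this)
  have h2 : (d * f) ^ 3 = 1 := mul_pow_three_of_not_commute S.set hd hf fun e => h (e.map π)
  rw [mul_assoc, ((S.W_self hd hw).mul_left hc).symm.mul_pow, h2, mul_one, pow_succ, pow_two,
    S.W_sq hd hw, one_mul] at h1
  exact h1

/-- The subgroup generated by all the commutator sets. -/
def Setup.U (_ : Setup π D) : Subgroup G := Subgroup.closure (⋃ d ∈ D, W π d)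

theorem Setup.W_le_U {d : G} (hd : d ∈ D) {w : G} (hw : w ∈ W π d) : w ∈ S.U :=
  Subgroup.subset_closure (Set.mem_biUnion hd hw)

theorem Setup.U_le : S.U ≤ π.ker :=
  (Subgroup.closure_le _).2 fun w hw => by
    obtain ⟨d, hd, hw⟩ := Set.mem_iUnion₂.1 hw
    exact S.W_map hd hw

theorem Setup.U_normal : S.U.Normal := ⟨fun x hx g => by
  induction hx using Subgroup.closure_induction with
  | mem w hw =>
    obtain ⟨d, hd, hw⟩ := Set.mem_iUnion₂.1 hw
    exact S.W_le_U (S.conj hd g) (S.W_conj g hw)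
  | one => rw [mul_one, mul_inv_cancel]; exact one_mem _
  | mul a b _ _ ha hb =>
    rw [show g * (a * b) * g⁻¹ = g * a * g⁻¹ * (g * b * g⁻¹) by group]
    exact mul_mem ha hb
  | inv a _ ha =>
    rw [show g * a⁻¹ * g⁻¹ = (g * a * g⁻¹)⁻¹ by group]
    exact inv_mem ha⟩

/-- The members commuting with `d` or `f` generate modulo the kernel. -/
def Covers (π : G →* Q) (D : Set G) : Prop :=
  ∀ d ∈ D, ∀ f ∈ D, ¬ Commute (π d) (π f) →
    Subgroup.closure (π '' {g ∈ D | Commute (π g) (π d) ∨ Commute (π g) (π f)}) = ⊤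

theorem Setup.lift_covers (hcov : Covers π D) {d f : G} (hd : d ∈ D) (hf : f ∈ D)
    (h : ¬ Commute (π d) (π f)) :
    Subgroup.closure {g ∈ D | Commute (π g) (π d) ∨ Commute (π g) (π f)} = ⊤ := by
  set H := Subgroup.closure {g ∈ D | Commute (π g) (π d) ∨ Commute (π g) (π f)}
  have hmap : H.map π = ⊤ := by rw [MonoidHom.map_closure, hcov d hd f hf h]
  rw [eq_top_iff, ← S.cls.2.2, Subgroup.closure_le]
  intro x hx
  obtain ⟨g, hg⟩ := class_exists_conj S.cls hx hd
  obtain ⟨h', hh', hgh⟩ : π g ∈ H.map π := hmap ▸ Subgroup.mem_top _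
  have hmem : h' * x * h'⁻¹ ∈ H := Subgroup.subset_closure ⟨S.conj hx h', Or.inl (by
    rw [show π (h' * x * h'⁻¹) = π d by rw [← hg]; simp [hgh]])⟩
  have := mul_mem (mul_mem (inv_mem hh') hmem) hh'
  rwa [show h'⁻¹ * (h' * x * h'⁻¹) * h' = x by group] at this

/-- All commutator sets commute. -/
theorem Setup.W_all (hcov : Covers π D) {d f : G} (hd : d ∈ D) (hf : f ∈ D) {w u : G}
    (hw : w ∈ W π d) (hu : u ∈ W π f) : Commute w u := by
  by_cases h : Commute (π d) (π f)
  · exact S.W_W hd hf h hw hu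
  have hwi := S.W_inv hd hw
  have hui := S.W_inv hf hu
  have hz : ⁅w, u⁆ ∈ Subgroup.center G := by
    refine Subgroup.mem_center_iff.2 fun x => ?_
    have hx : x ∈ Subgroup.centralizer {⁅w, u⁆} := by
      have hle : Subgroup.closure {g ∈ D | Commute (π g) (π d) ∨ Commute (π g) (π f)}
          ≤ Subgroup.centralizer {⁅w, u⁆} := by
        rw [Subgroup.closure_le]
        rintro g ⟨hg, hcom⟩
        rw [SetLike.mem_coe, Subgroup.mem_centralizer_singleton_iff]
        refine mul_inv_eq_iff_eq_mul.1 ?_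
        have hgi := S.inv_eq hg
        rw [show g * ⁅w, u⁆ * g⁻¹ = ⁅g * w * g⁻¹, g * u * g⁻¹⁆ by simp only [commutatorElement_def]; group]
        rcases hcom with hc | hc
        · obtain ⟨t, ht, hgu⟩ := S.conj_ker hg (S.W_map hf hu)
          have h1 : g * w * g⁻¹ = w := mul_inv_eq_iff_eq_mul.2 (S.W_comm hd hg hc hw).eq
          have h2 : Commute w t := S.W_W hd hg hc.symm hw ht
          rw [h1, hgi, hgu, commutatorElement_def, commutatorElement_def, mul_inv_rev,
            S.W_inv hg ht, hwi, hui]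
          calc w * (u * t) * w * (t * u) = w * u * (t * w) * t * u := by group
            _ = w * u * w * (t * t) * u := by rw [← h2.eq]; group
            _ = w * u * w * u := by rw [S.W_sq hg ht, mul_one]
        · obtain ⟨t, ht, hgw⟩ := S.conj_ker hg (S.W_map hd hw)
          have h1 : g * u * g⁻¹ = u := mul_inv_eq_iff_eq_mul.2 (S.W_comm hf hg hc hu).eq
          have h2 : Commute u t := S.W_W hf hg hc.symm hu ht
          rw [h1, hgi, hgw, commutatorElement_def, commutatorElement_def, mul_inv_rev,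
            S.W_inv hg ht, hwi, hui]
          calc w * t * u * (t * w) * u = w * (t * u) * t * w * u := by group
            _ = w * u * (t * t) * w * u := by rw [← h2.eq]; group
            _ = w * u * w * u := by rw [S.W_sq hg ht, mul_one]
      exact hle ((S.lift_covers hcov hd hf h).symm ▸ Subgroup.mem_top x)
    exact Subgroup.mem_centralizer_singleton_iff.1 hx
  rw [S.centre, Subgroup.mem_bot] at hz
  exact commutatorElement_eq_one_iff_commute.1 hz

theorem Setup.U_comm (hcov : Covers π D) {x y : G} (hx : x ∈ S.U) (hy : y ∈ S.U) : Commute x y := by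
  have h : S.U ≤ Subgroup.centralizer (S.U : Set G) := by
    refine (Subgroup.closure_le _).2 fun w hw => ?_
    rw [SetLike.mem_coe, Subgroup.mem_centralizer_iff]
    intro z hz
    have hle : S.U ≤ Subgroup.centralizer {w} := (Subgroup.closure_le _).2 fun u hu => by
      obtain ⟨d, hd, hw⟩ := Set.mem_iUnion₂.1 hw
      obtain ⟨f, hf, hu⟩ := Set.mem_iUnion₂.1 hu
      rw [SetLike.mem_coe, Subgroup.mem_centralizer_singleton_iff]
      exact (S.W_all hcov hd hf hw hu).symm.eq
    exact Subgroup.mem_centralizer_singleton_iff.1 (hle hz)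
  exact (Subgroup.mem_centralizer_iff.1 (h hx) y hy).symm

theorem Setup.U_sq (hcov : Covers π D) {x : G} (hx : x ∈ S.U) : x * x = 1 := by
  induction hx using Subgroup.closure_induction with
  | mem w hw =>
    obtain ⟨d, hd, hw⟩ := Set.mem_iUnion₂.1 hw
    exact S.W_sq hd hw
  | one => exact one_mul 1
  | mul a b ha hb ha' hb' =>
    have h : Commute a b := S.U_comm hcov ha hb
    rw [show a * b * (a * b) = a * (b * a) * b by group, ← h.eq,
      show a * (a * b) * b = a * a * (b * b) by group, ha', hb', one_mul]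
  | inv a _ ha => rw [← mul_inv_rev, ha, inv_one]

/-- Every element of the group moves a kernel element within its coset of `U`. -/
theorem Setup.conj_mem_U {x : G} (hx : x ∈ π.ker) (g : G) : x⁻¹ * (g * x * g⁻¹) ∈ S.U := by
  haveI := S.U_normal
  have hg : g ∈ Subgroup.closure D := S.cls.2.2.symm ▸ Subgroup.mem_top g
  induction hg using Subgroup.closure_induction generalizing x with
  | mem d hd =>
    obtain ⟨w, hw, he⟩ := S.conj_ker hd hx
    rw [S.inv_eq hd, he, inv_mul_cancel_left]
    exact S.W_le_U hd hw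
  | one => simp [one_mem]
  | mul a b _ _ ha hb =>
    have h := mul_mem (hb hx) (ha (Subgroup.Normal.conj_mem inferInstance x hx b))
    rwa [show x⁻¹ * (b * x * b⁻¹) * ((b * x * b⁻¹)⁻¹ * (a * (b * x * b⁻¹) * a⁻¹))
      = x⁻¹ * (a * b * x * (a * b)⁻¹) by group] at h
  | inv a _ ha =>
    have h := inv_mem (ha (Subgroup.Normal.conj_mem inferInstance x hx a⁻¹))
    rwa [show ((a⁻¹ * x * a⁻¹⁻¹)⁻¹ * (a * (a⁻¹ * x * a⁻¹⁻¹) * a⁻¹))⁻¹
      = x⁻¹ * (a⁻¹ * x * a⁻¹⁻¹) by group] at h

/-- An element of the kernel that is a product of pairwise commuting members centralises `U`. -/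
theorem Setup.prod_centralizes (hcov : Covers π D) {l : List G} (hl : ∀ p ∈ l, p ∈ D)
    (hc : ∀ p ∈ l, ∀ r ∈ l, Commute (π p) (π r)) (hne : l ≠ []) (hv : l.prod ∈ π.ker) {x : G}
    (hx : x ∈ S.U) : Commute l.prod x := by
  obtain ⟨p, hp⟩ := List.exists_mem_of_ne_nil l hne
  suffices h : S.U ≤ Subgroup.centralizer {l.prod} from
    (Subgroup.mem_centralizer_singleton_iff.1 (h hx)).symm
  refine (Subgroup.closure_le _).2 fun w hw => ?_
  obtain ⟨d, hd, hw⟩ := Set.mem_iUnion₂.1 hw
  rw [SetLike.mem_coe, Subgroup.mem_centralizer_singleton_iff]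
  obtain ⟨g, hg⟩ := class_exists_conj S.cls (hl p hp) hd
  set t := g⁻¹ * w * g with ht
  have ht' : t ∈ W π p := by
    have := S.W_conj g⁻¹ hw
    rwa [← hg, inv_inv, show g⁻¹ * (g * p * g⁻¹) * g = p by group] at this
  have h1 : Commute l.prod t :=
    Commute.list_prod_left l t fun r hr => S.W_comm (hl p hp) (hl r hr) (hc r hr p hp) ht'
  set u := l.prod⁻¹ * (g * l.prod * g⁻¹) with hu
  have h2 : Commute u w := S.U_comm hcov (S.conj_mem_U hv g) (S.W_le_U hd hw)
  have h3 : Commute (g * l.prod * g⁻¹) w := by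
    show g * l.prod * g⁻¹ * w = w * (g * l.prod * g⁻¹)
    calc g * l.prod * g⁻¹ * w = g * (l.prod * t) * g⁻¹ := by rw [ht]; group
      _ = w * (g * l.prod * g⁻¹) := by rw [h1.eq, ht]; group
  have h4 := h3.mul_left h2.inv_left
  rw [hu, show g * l.prod * g⁻¹ * (l.prod⁻¹ * (g * l.prod * g⁻¹))⁻¹ = l.prod by group] at h4
  exact h4.eq.symm

/-- With abelian kernel: the effect of pairwise commuting members is the product of their effects. -/
theorem Setup.prod_conj (hab : ∀ x ∈ π.ker, ∀ y ∈ π.ker, Commute x y) {l : List G}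
    (hl : ∀ p ∈ l, p ∈ D) (hc : ∀ p ∈ l, ∀ r ∈ l, Commute (π p) (π r)) {x : G} (hx : x ∈ π.ker) :
    l.prod * x * l.prod⁻¹ = x * (l.map fun p => x⁻¹ * p * x * p).prod := by
  induction l with
  | nil => simp
  | cons p l ih =>
    have hpD := hl p (List.mem_cons_self ..)
    have hfix : Commute p (l.map fun r => x⁻¹ * r * x * r).prod := by
      refine Commute.list_prod_right _ _ fun y hy => ?_
      obtain ⟨r, hr, rfl⟩ := List.mem_map.1 hy
      exact S.W_comm (hl r (List.mem_cons_of_mem _ hr)) hpD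
        (hc p (List.mem_cons_self ..) r (List.mem_cons_of_mem _ hr))
        ⟨x⁻¹, inv_mem hx, by group⟩
    have ih' := ih (fun r hr => hl r (List.mem_cons_of_mem _ hr))
      fun a ha b hb => hc a (List.mem_cons_of_mem _ ha) b (List.mem_cons_of_mem _ hb)
    rw [List.prod_cons, List.map_cons, List.prod_cons, mul_inv_rev]
    calc p * l.prod * x * (l.prod⁻¹ * p⁻¹) = p * (l.prod * x * l.prod⁻¹) * p⁻¹ := by group
      _ = p * x * ((l.map fun r => x⁻¹ * r * x * r).prod * p⁻¹) := by rw [ih']; group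
      _ = p * x * (p⁻¹ * (l.map fun r => x⁻¹ * r * x * r).prod) := by
          rw [(hfix.inv_left).eq]
      _ = x * (x⁻¹ * p * x * p * (l.map fun r => x⁻¹ * r * x * r).prod) := by
          rw [S.inv_eq hpD]; group

/-- With abelian kernel the commutator set is closed under products. -/
theorem Setup.W_mul_mem (hab : ∀ x ∈ π.ker, ∀ y ∈ π.ker, Commute x y) {d : G} (hd : d ∈ D)
    {w w' : G} (hw : w ∈ W π d) (hw' : w' ∈ W π d) : w * w' ∈ W π d := by
  obtain ⟨v, hv, rfl⟩ := hw
  obtain ⟨v', hv', rfl⟩ := hw'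
  refine ⟨v * v', mul_mem hv hv', ?_⟩
  have hy : d * v⁻¹ * d ∈ π.ker := by
    have h := Subgroup.Normal.conj_mem (inferInstance : π.ker.Normal) v⁻¹ (inv_mem hv) d
    rwa [S.inv_eq hd] at h
  have hy' : d * v'⁻¹ * d ∈ π.ker := by
    have h := Subgroup.Normal.conj_mem (inferInstance : π.ker.Normal) v'⁻¹ (inv_mem hv') d
    rwa [S.inv_eq hd] at h
  calc v * v' * d * (v * v')⁻¹ * d = v * v' * ((d * v'⁻¹ * d⁻¹) * (d * v⁻¹ * d)) := by group
    _ = v * v' * ((d * v⁻¹ * d) * (d * v'⁻¹ * d)) := by
        rw [S.inv_eq hd, (hab _ hy _ hy').eq]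
    _ = v * (v' * (d * v⁻¹ * d)) * (d * v'⁻¹ * d) := by group
    _ = v * d * v⁻¹ * d * (v' * d * v'⁻¹ * d) := by rw [(hab _ hv' _ hy).eq]; group

/-- The round identity: `β_d β_f = 1` on the set of `d`. -/
theorem Setup.round (hab : ∀ x ∈ π.ker, ∀ y ∈ π.ker, Commute x y) {d f : G} (hd : d ∈ D)
    (hf : f ∈ D) (h : ¬ Commute (π d) (π f)) {w : G} (hw : w ∈ W π d) :
    d * (w * (f * w * f)) * d * (w * (f * w * f)) = w := by
  have hw2 := S.W_sq hd hw
  have hk := S.W_map hd hw
  have hdd := S.self hd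
  have hff := S.self hf
  have hconj : ∀ {g y : G}, g ∈ D → y ∈ π.ker → g * y * g ∈ π.ker := fun {g y} hg hy => by
    have h := Subgroup.Normal.conj_mem (inferInstance : π.ker.Normal) y hy g
    rwa [S.inv_eq hg] at h
  set y := f * w * f with hy
  have hyk : y ∈ π.ker := hconj hf hk
  set z := w * y with hz
  have hzk : z ∈ π.ker := mul_mem hk hyk
  have hdw : d * w * d = w := by rw [(S.W_self hd hw).eq, mul_assoc, hdd, mul_one]
  have hzz : z * z = 1 := by
    rw [hz, show w * y * (w * y) = w * (y * w) * y by group, (hab _ hyk _ hk).eq,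
      show w * (w * y) * y = w * w * (y * y) by group, hw2, one_mul, hy,
      show f * w * f * (f * w * f) = f * w * (f * f) * w * f by group, hff, mul_one,
      mul_assoc f w w, hw2, mul_one, hff]
  have hzW : d * z * d * z ∈ W π d := ⟨z, hzk, by
    rw [inv_eq_of_mul_eq_one_right hzz]
    calc z * d * z * d = z * (d * z * d) := by group
      _ = d * z * d * z := (hab _ hzk _ (hconj hd hzk)).eq⟩
  have hs : d * z * d * z = d * y * d * y := by
    calc d * z * d * z = d * w * d * (d * y * d) * (w * y) := by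
          rw [hz, show d * w * d * (d * y * d) = d * w * (d * d) * y * d by group, hdd, mul_one]
          group
      _ = (d * y * d * w) * (w * y) := by rw [hdw, (hab _ hk _ (hconj hd hyk)).eq]
      _ = d * y * d * (w * w) * y := by group
      _ = d * y * d * y := by rw [hw2, mul_one]
  set s := d * z * d * z * w with hsdef
  have hsW : s ∈ W π d := S.W_mul_mem hab hd hzW hw
  have hn : ¬ Commute d f := fun e => h (e.map π)
  have hb := braid S.set hd hf hn
  have hfix : Commute f s := by
    refine mul_inv_eq_iff_eq_mul.1 ?_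
    rw [S.inv_eq hf, hsdef, hs]
    calc f * (d * y * d * y * w) * f
        = f * d * f * w * (f * d * f) * w * (f * w * f) := by rw [hy]; group
      _ = d * f * (d * w * d) * f * d * w * (f * w * f) := by rw [← hb]; group
      _ = d * y * d * (w * y) := by rw [hdw, hy]; group
      _ = d * y * d * y * w := by rw [(hab _ hk _ hyk).eq]; group
  exact (mul_eq_one_iff_eq_inv.1 (S.free hd hf h hsW hfix)).trans (S.W_inv hd hw)

end CfsgLib.ThreeTransp.TwoRadical
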