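import Cfsg.Agent.Lib.ThreeTransp.TwoRadical.FixedFree

/-!
Over `SU_5(2)` there is exactly one orbit of the kernel on the systems of pairwise compatible lifts
of the elements of order three; the stabiliser of one system is a complement.
-/

set_option autoImplicit false
set_option linter.unusedSectionVars false
set_option linter.style.haveILetI false

namespace CfsgLib.ThreeTransp.TwoRadical

open Cfsg CfsgLib.Classical.Herm Geom
open CfsgLib.ClassicalAut (Unitary.Conj)

universe u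

section Fpf

variable {G : Type u} {Q : Type*} [Group G] [Group Q] [Finite G] {π : G →* Q}
  (hab : ∀ x ∈ π.ker, ∀ y ∈ π.ker, Commute x y) {z : G}
  (hz : ∀ c ∈ π.ker, Commute z c → c = 1)

include hab hz

/-- An element without fixed points meets its coset in one orbit. -/
theorem exists_conj_lift {z' : G} (h : π z' = π z) : ∃ v ∈ π.ker, v * z * v⁻¹ = z' := by
  have hk : ∀ v : ↥π.ker, (v : G) * z * (v : G)⁻¹ * z⁻¹ ∈ π.ker := fun v => by
    have hv : π (v : G) = 1 := v.2
    simp [MonoidHom.mem_ker, hv]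
  let f : ↥π.ker → ↥π.ker := fun v => ⟨_, hk v⟩
  have hinj : Function.Injective f := by
    intro a b e
    have e' : (a : G) * z * (a : G)⁻¹ * z⁻¹ = b * z * (b : G)⁻¹ * z⁻¹ := congrArg Subtype.val e
    have e'' := mul_right_cancel e'
    have hc : Commute z ((b : G)⁻¹ * a) := by
      show z * ((b : G)⁻¹ * a) = (b : G)⁻¹ * a * z
      calc z * ((b : G)⁻¹ * a) = (b : G)⁻¹ * (b * z * (b : G)⁻¹) * a := by group
        _ = (b : G)⁻¹ * a * z := by rw [← e'']; group
    exact Subtype.ext (inv_mul_eq_one.1 (hz _ (mul_mem (inv_mem b.2) a.2) hc)).symm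
  have hmem : z' * z⁻¹ ∈ π.ker := by rw [MonoidHom.mem_ker, map_mul, map_inv, h, mul_inv_cancel]
  obtain ⟨v, hv⟩ := Finite.surjective_of_injective hinj ⟨_, hmem⟩
  exact ⟨v, v.2, mul_right_cancel (congrArg Subtype.val hv : (v : G) * z * (v : G)⁻¹ * z⁻¹ = z' * z⁻¹)⟩

theorem exists_commuting_lift (hs : Function.Surjective π) {q : Q} (hq : Commute q (π z)) :
    ∃ g, π g = q ∧ Commute g z := by
  obtain ⟨g, rfl⟩ := hs q
  obtain ⟨v, hv, he⟩ := exists_conj_lift hab hz (z' := g * z * g⁻¹)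
    (by rw [map_mul, map_mul, map_inv, hq.eq, mul_inv_cancel_right])
  refine ⟨v⁻¹ * g, by rw [map_mul, map_inv, show π v = 1 from hv, inv_one, one_mul], ?_⟩
  show v⁻¹ * g * z = z * (v⁻¹ * g)
  calc v⁻¹ * g * z = v⁻¹ * (g * z * g⁻¹) * g := by group
    _ = z * (v⁻¹ * g) := by rw [← he]; group

theorem lift_unique_of_commute {x y : G} (hx : Commute x z) (hy : Commute y z) (h : π x = π y) :
    x = y :=
  inv_mul_eq_one.1 (hz _ (by rw [MonoidHom.mem_ker, map_mul, map_inv, h, inv_mul_cancel])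
    (hx.symm.inv_right.mul_right hy.symm))

theorem commute_of_commuting {x y : G} (hx : Commute x z) (hy : Commute y z)
    (h : Commute (π x) (π y)) : Commute x y := by
  have hc : Commute (x * y) z := hx.mul_left hy
  exact lift_unique_of_commute hab hz hc (hy.mul_left hx) (by rw [map_mul, map_mul, h.eq])

end Fpf

variable {F : Type} [Field F] [Fintype F] (K : Unitary.Conj F 2) {G : Type u} [Group G]
  [Finite G] {π : G →* SU 5 F 2} {D : Set G} (S : Setup π D)
  (hab : ∀ x ∈ π.ker, ∀ y ∈ π.ker, Commute x y) (hsq : ∀ x ∈ π.ker, x * x = 1)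
  {ω : F} (hω0 : ω ≠ 0) (hω : K.bar ω = ω + 1) (hωω : ω * ω = ω + 1)

local notation "H" => hermForm 5 F 2
local notation "M" => (Fin 5 → F)

/-- A system of lifts compatible along orthogonality. -/
structure Coherent (π : G →* SU 5 F 2) (ω : F) (f : (Fin 5 → F) → G) : Prop where
  zeta : ∀ e, hermForm 5 F 2 e e = 1 → IsZeta ω (π (f e)) e
  comm : ∀ a b, hermForm 5 F 2 a a = 1 → hermForm 5 F 2 b b = 1 → hermForm 5 F 2 a b = 0 →
    Commute (f a) (f b)

include K S hab hsq hω0 hω hωω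

theorem exists_coherent : ∃ f : M → G, Coherent π ω f := by
  classical
  have hfree : ∀ {e : M} {z : G}, H e e = 1 → IsZeta ω (π z) e → ∀ c ∈ π.ker, Commute z c → c = 1 :=
    fun he hz c hc h => fixed_eq_one K S hab hsq hω0 hω hωω he hz hc h
  set e₀ : M := Pi.single 0 1
  have he₀ : H e₀ e₀ = 1 := by rw [h_single_single K, if_pos rfl]
  obtain ⟨Z₀, hZ₀⟩ := exists_zeta K hω0 hω hωω he₀
  obtain ⟨z₀, rfl⟩ := S.surj Z₀
  have hL : ∀ a : M, ∃ g, H a a = 1 → H a e₀ = 0 → IsZeta ω (π g) a ∧ Commute g z₀ := by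
    intro a
    by_cases h : H a a = 1 ∧ H a e₀ = 0
    · obtain ⟨Za, hZa⟩ := exists_zeta K hω0 hω hωω h.1
      obtain ⟨g, hg, hc⟩ := exists_commuting_lift hab (hfree he₀ hZ₀) S.surj
        (zeta_commute K hω0 hZa hZ₀ (Geom.hz K h.2))
      exact ⟨g, fun _ _ => ⟨hg ▸ hZa, hc⟩⟩
    · exact ⟨1, fun h1 h2' => absurd ⟨h1, h2'⟩ h⟩
  choose L hL using hL
  have hLc : ∀ {a b : M}, H a a = 1 → H a e₀ = 0 → H b b = 1 → H b e₀ = 0 → H b a = 0 →
      Commute (L a) (L b) := fun ha hae hb hbe hba =>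
    commute_of_commuting hab (hfree he₀ hZ₀) (hL _ ha hae).2 (hL _ hb hbe).2
      (zeta_commute K hω0 (hL _ ha hae).1 (hL _ hb hbe).1 hba)
  have hgood : ∀ e : M, ∃ z, H e e = 1 → IsZeta ω (π z) e ∧
      ∀ a, H a a = 1 → H a e₀ = 0 → H a e = 0 → Commute z (L a) := by
    intro e
    by_cases he : H e e = 1
    swap
    · exact ⟨1, fun h => absurd h he⟩
    by_cases h0 : H e e₀ = 0
    · exact ⟨L e, fun _ => ⟨(hL e he h0).1, fun a ha hae hae' => hLc he h0 ha hae hae'⟩⟩
    by_cases hline : e = H e e₀ • e₀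
    · refine ⟨z₀, fun _ => ⟨?_, fun a ha hae _ => ((hL a ha hae).2).symm⟩⟩
      rw [hline]
      exact zeta_smul K hZ₀ h0
    obtain ⟨a, ha, hae₀, hae⟩ := exists_common K (p := e) he₀
    obtain ⟨Ze, hZe⟩ := exists_zeta K hω0 hω hωω he
    obtain ⟨z, hz, hzc⟩ := exists_commuting_lift hab (hfree ha (hL a ha hae₀).1) S.surj
      (zeta_commute K hω0 hZe (hL a ha hae₀).1 hae)
    have hzz : IsZeta ω (π z) e := hz ▸ hZe
    have hstep : ∀ {p q : M}, H p p = 1 → H p e₀ = 0 → Commute z (L p) → H q q = 1 →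
        H q e₀ = 0 → H q e = 0 → H q p = 0 → Commute z (L q) := fun hp hp0 hzp hq hq0 hqe hqp =>
      commute_of_commuting hab (hfree hp (hL _ hp hp0).1) hzp
        (hLc hp hp0 hq hq0 hqp).symm (zeta_commute K hω0 hzz (hL _ hq hq0).1 hqe)
    refine ⟨z, fun _ => ⟨hzz, fun b hb hbe₀ hbe => ?_⟩⟩
    rcases link K he₀ he (fun h => h0 (Geom.hz K h)) hline ha hb hae₀ hae hbe₀ hbe with
      hab' | ⟨c, hc, hce₀, hce, hca, hcb⟩
    · exact hstep ha hae₀ hzc hb hbe₀ hbe (Geom.hz K hab')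
    · exact hstep hc hce₀ (hstep ha hae₀ hzc hc hce₀ hce hca) hb hbe₀ hbe (Geom.hz K hcb)
  choose f hf using hgood
  refine ⟨f, fun e he => (hf e he).1, fun p q hp hq hpq => ?_⟩
  obtain ⟨a, ha, hae₀, hap, haq⟩ := exists_common_three K (e := e₀) hp hq hpq
  exact commute_of_commuting hab (hfree ha (hL a ha hae₀).1) ((hf p hp).2 a ha hae₀ hap)
    ((hf q hq).2 a ha hae₀ haq) (zeta_commute K hω0 (hf p hp).1 (hf q hq).1 (Geom.hz K hpq))

/-- Two systems agreeing at one unit vector agree everywhere. -/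
theorem coherent_eq {f f' : M → G} (hf : Coherent π ω f) (hf' : Coherent π ω f') {e₁ : M}
    (he₁ : H e₁ e₁ = 1) (h : f e₁ = f' e₁) {e : M} (he : H e e = 1) : f e = f' e := by
  have step : ∀ {p q : M}, H p p = 1 → H q q = 1 → H p q = 0 → f p = f' p → f q = f' q :=
    fun {p q} hp hq hpq hfp => lift_unique_of_commute hab
      (fun c hc hcc => fixed_eq_one K S hab hsq hω0 hω hωω hp (hf.zeta p hp) hc hcc)
      (hf.comm p q hp hq hpq).symm (hfp ▸ (hf'.comm p q hp hq hpq).symm)
      (zeta_unique (hf.zeta q hq) (hf'.zeta q hq))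
  obtain ⟨a, ha, hae₁, hae⟩ := exists_common K (p := e) he₁
  exact step ha he hae (step he₁ ha (Geom.hz K hae₁) h)

/-- The kernel has a complement. -/
theorem exists_complement : ∃ C : Subgroup G, π.ker.IsComplement' C := by
  obtain ⟨f, hf⟩ := exists_coherent K S hab hsq hω0 hω hωω
  let C : Subgroup G :=
    { carrier := {g | ∀ e : M, H e e = 1 → g * f e * g⁻¹ = f (app (π g) e)}
      mul_mem' := fun {g g'} hg hg' e he => by
        rw [map_mul, app_mul, ← hg _ (by rw [h_app]; exact he), ← hg' e he]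
        group
      one_mem' := fun e _ => by simp [app_one]
      inv_mem' := fun {g} hg e he => by
        have h := hg (app (π g)⁻¹ e) (by rw [h_app]; exact he)
        rw [app_inv'] at h
        rw [map_inv, inv_inv]
        calc g⁻¹ * f e * g = g⁻¹ * (g * f (app (π g)⁻¹ e) * g⁻¹) * g := by rw [h]
          _ = f (app (π g)⁻¹ e) := by group }
  obtain ⟨e₀, he₀⟩ : ∃ e : M, H e e = 1 := ⟨Pi.single 0 1, by rw [h_single_single K, if_pos rfl]⟩
  have hfree := fun c hc h => fixed_eq_one K S hab hsq hω0 hω hωω he₀ (hf.zeta e₀ he₀) (c := c) hc h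
  refine ⟨C, Subgroup.isComplement'_of_disjoint_and_mul_eq_univ ?_ ?_⟩
  · rw [Subgroup.disjoint_def]
    intro v hv hvC
    have h := hvC e₀ he₀
    rw [show π v = 1 from hv, app_one] at h
    exact hfree v hv (mul_inv_eq_iff_eq_mul.1 h).symm
  · refine Set.eq_univ_of_forall fun g => ?_
    set e₁ := app (π g) e₀ with he₁def
    have he₁ : H e₁ e₁ = 1 := by rw [h_app]; exact he₀
    obtain ⟨v, hv, hvz⟩ := exists_conj_lift hab
      (fun c hc h => fixed_eq_one K S hab hsq hω0 hω hωω he₁ (hf.zeta e₁ he₁) hc h)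
      (z' := g * f e₀ * g⁻¹) (zeta_unique
        (by
          have := zeta_conj K (hf.zeta e₀ he₀) (π g)
          rwa [← map_inv, ← map_mul, ← map_mul] at this)
        (hf.zeta e₁ he₁))
    have hπv : π v⁻¹ = 1 := inv_mem hv
    refine ⟨v, hv, v⁻¹ * g, ?_, mul_inv_cancel_left v g⟩
    intro e he
    set h := v⁻¹ * g with hh
    have hπh : π h = π g := by rw [hh, map_mul, hπv, one_mul]
    set f' : M → G := fun e => h * f (app (π h)⁻¹ e) * h⁻¹ with hf'
    have hco : Coherent π ω f' := by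
      refine ⟨fun e he => ?_, fun a b ha hb hab' => ?_⟩
      · show IsZeta ω (π (h * f (app (π h)⁻¹ e) * h⁻¹)) e
        have := zeta_conj K (hf.zeta (app (π h)⁻¹ e) (by rw [h_app]; exact he)) (π h)
        rw [app_inv'] at this
        rwa [map_mul, map_mul, map_inv]
      · exact (Commute.conj_iff h).2 (hf.comm _ _ (by rw [h_app]; exact ha) (by rw [h_app]; exact hb)
          (by rw [h_app]; exact hab'))
    have hag : f' e₁ = f e₁ := by
      rw [hf', he₁def, hπh]
      simp only [app_inv]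
      rw [← he₁def, hh]
      calc v⁻¹ * g * f e₀ * (v⁻¹ * g)⁻¹ = v⁻¹ * (g * f e₀ * g⁻¹) * v := by group
        _ = f e₁ := by rw [← hvz]; group
    have := coherent_eq K S hab hsq hω0 hω hωω hco hf he₁ hag (e := app (π h) e) (by rw [h_app]; exact he)
    rw [hf'] at this
    simp only [app_inv] at this
    exact this

end CfsgLib.ThreeTransp.TwoRadical
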