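import Cfsg.Agent.Lib.ThreeTransp.TwoRadical.Geom

/-!
The transvections commuting with one of two non-commuting transvections of `SU_n(2)` generate, and
five transvections on an isotropic line multiply to one.
-/

set_option autoImplicit false
set_option linter.unusedSectionVars false
set_option linter.style.haveILetI false

namespace CfsgLib.ThreeTransp.TwoRadical.Geom

open Matrix Cfsg CfsgLib.Classical.Herm
open CfsgLib.ClassicalAut (Unitary.Conj Unitary.space)

variable {F : Type} [Field F] [Fintype F] (K : Unitary.Conj F 2) {n : ℕ}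

local notation "H" => hermForm n F 2
local notation "M" => (Fin n → F)

include K

/-- A unit vector orthogonal to three vectors. -/
theorem unit_three (hn : 5 ≤ n) {f₁ f₂ f₃ g₁ g₂ : M} (h1 : H g₁ g₁ = 1) (h2 : H g₂ g₂ = 1)
    (h12 : H g₁ g₂ = 0) (m1 : g₁ ∈ Submodule.span F (Set.range ![f₁, f₂, f₃]))
    (m2 : g₂ ∈ Submodule.span F (Set.range ![f₁, f₂, f₃])) :
    ∃ z, H z z = 1 ∧ H z f₁ = 0 ∧ H z f₂ = 0 ∧ H z f₃ = 0 := by
  obtain ⟨z, hz, hzf⟩ := CfsgLib.Schur.UnitaryGeom.exists_orth_unit K ![f₁, f₂, f₃]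
    (CfsgLib.Schur.UnitaryGeom.on_two K h1 h2 h12)
    (fun i => by fin_cases i <;> [exact m1; exact m2]) (by omega)
  exact ⟨z, hz, hzf 0, hzf 1, hzf 2⟩

/-- An isotropic vector orthogonal to a hyperbolic pair and pairing to one with a given vector. -/
theorem exists_partner (hn : 5 ≤ n) {x y q : M} (hxx : H x x = 0) (hyy : H y y = 0)
    (hxy : H x y = 1) (hqx : H q x = 0) (hqy : H q y = 0) (hq : q ≠ 0) :
    ∃ z, H z x = 0 ∧ H z y = 0 ∧ H z z = 0 ∧ H q z = 1 := by
  have hyx : H y x = 1 := by rw [h_swap K x y, hxy, map_one]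
  rcases self_cases K q with hqq | hqq
  · obtain ⟨w₀, hw₀⟩ := exists_dual K hq
    set w := w₀ + H w₀ y • x + H w₀ x • y with hw
    have hqw : H q w = 1 := by
      simp only [hw, har K, hsr K, hqx, hqy, hw₀, mul_zero, add_zero]
    have hwx : H w x = 0 := by
      simp only [hw, hal K, hsl K, hxx, hyx, mul_zero, add_zero, mul_one, addself' K]
    have hwy : H w y = 0 := by
      simp only [hw, hal K, hsl K, hyy, hxy, mul_zero, add_zero, mul_one, addself' K]
    obtain ⟨α, hα⟩ := exists_trace K (c := H w w) (h_swap K w w).symm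
    refine ⟨w + α • q, ?_, ?_, ?_, ?_⟩
    · rw [hal K, hsl K, hwx, hqx, mul_zero, add_zero]
    · rw [hal K, hsl K, hwy, hqy, mul_zero, add_zero]
    · simp only [hal K, har K, hsl K, hsr K, hqq, hqw, h_swap K q w, map_one, mul_zero, add_zero]
      linear_combination hα + H w w * h2 K
    · rw [har K, hsr K, hqq, hqw, mul_zero, add_zero]
  · obtain ⟨ω, -, hω, -⟩ := exists_omega K
    set g := x + ω • y with hg
    have hgg : H g g = 1 := by
      simp only [hg, hal K, har K, hsl K, hsr K, hxx, hyy, hxy, hyx, hω]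
      linear_combination ω * h2 K
    have hqg : H q g = 0 := by simp only [hg, har K, hsr K, hqx, hqy, mul_zero, add_zero]
    obtain ⟨w, hww, hwq, hwx, hwy⟩ := unit_three K hn hqq hgg hqg (f₁ := q) (f₂ := x) (f₃ := y)
      (Submodule.subset_span ⟨0, rfl⟩)
      (add_mem (Submodule.subset_span ⟨1, rfl⟩)
        (Submodule.smul_mem _ _ (Submodule.subset_span ⟨2, rfl⟩)))
    refine ⟨q + w, ?_, ?_, ?_, ?_⟩
    · rw [hal K, hqx, hwx, add_zero]
    · rw [hal K, hqy, hwy, add_zero]
    · simp only [hal K, har K, hqq, hww, hwq, hz K hwq]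
      linear_combination h2 K
    · rw [har K, hqq, hz K hwq, add_zero]

/-- Every transvection is a conjugate of one commuting with one of a non-commuting pair. -/
theorem exists_via (hn : 5 ≤ n) {x y p : M} (hxx : H x x = 0) (hyy : H y y = 0) (hxy : H x y = 1)
    (hpp : H p p = 0) (hpx : H p x ≠ 0) (hpy : H p y ≠ 0) :
    ∃ a, H a a = 0 ∧ H a x = 0 ∧ a ≠ 0 ∧ p + H p a • a ≠ 0 ∧ H (p + H p a • a) y = 0 := by
  have hyx : H y x = 1 := by rw [h_swap K x y, hxy, map_one]
  set s := H p x with hs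
  set r := H p y with hr
  set q := p + r • x + s • y with hq
  have hqx : H q x = 0 := by
    simp only [hq, hal K, hsl K, hxx, hyx, ← hs, mul_zero, add_zero, mul_one, addself' K]
  have hqy : H q y = 0 := by
    simp only [hq, hal K, hsl K, hyy, hxy, ← hr, mul_zero, add_zero, mul_one, addself' K]
  have key : ∀ z : M, H z x = 0 → H z y = 0 → H z z = 0 → H q z = r + s →
      ∃ a, H a a = 0 ∧ H a x = 0 ∧ a ≠ 0 ∧ p + H p a • a ≠ 0 ∧ H (p + H p a • a) y = 0 := by
    intro z hzx hzy hzz hqz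
    have hpz : H p z = r + s := by
      rw [← hqz, hq]
      simp only [hal K, hsl K, hz K hzx, hz K hzy, mul_zero, add_zero]
    have hay : H (x + z) y = 1 := by rw [hal K, hxy, hzy, add_zero]
    have hpa : H p (x + z) = r := by
      rw [har K, hpz, ← hs]
      linear_combination s * h2 K
    have hax : H (x + z) x = 0 := by rw [hal K, hxx, hzx, add_zero]
    refine ⟨x + z, ?_, hax, fun e => ?_, fun e => hpx ?_, ?_⟩
    · simp only [hal K, har K, hxx, hzx, hz K hzx, hzz, add_zero]
    · rw [e, show (0 : M) = (0 : F) • y by simp, hsl K, zero_mul] at hay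
      exact zero_ne_one hay
    · have h := congrArg (fun v => H v x) e
      simp only [hal K, hsl K, hxx, hzx, mul_zero, add_zero] at h
      exact h.trans (hz K (h0r K x))
    · rw [hal K, hsl K, hpa, hay, ← hr, mul_one, addself' K]
  by_cases hε : r + s = 0
  · refine key 0 ?_ ?_ ?_ ?_
    all_goals first
      | rw [h0r K, hε]
      | exact hz K (h0r K _)
      | exact h0r K _
  have hq0 : q ≠ 0 := by
    intro e
    have he : p = r • x + s • y := by
      rw [hq, add_assoc] at e
      rw [← add_zero p, ← addself K (r • x + s • y), ← add_assoc, e, zero_add]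
    refine hε ?_
    have h := hpp
    rw [he] at h
    simp only [hal K, har K, hsl K, hsr K, hxx, hyy, hxy, hyx, mul_zero, add_zero, zero_add,
      mul_one] at h
    have h' : (r + s) * (r + s) = 0 := by
      linear_combination (r * s) * h - r * r * norm_one K hpx - s * s * norm_one K hpy + r * s * h2 K
    exact mul_self_eq_zero.1 h'
  obtain ⟨z, hzx, hzy, hzz, hqz⟩ := exists_partner K hn hxx hyy hxy hqx hqy hq0
  refine key (K.bar (r + s) • z) ?_ ?_ ?_ ?_
  · rw [hsl K, hzx, mul_zero]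
  · rw [hsl K, hzy, mul_zero]
  · rw [hsl K, hsr K, hzz, mul_zero, mul_zero]
  · rw [hsr K, hqz, K.bar_bar, mul_one]

/-- The transvections commuting with one of a non-commuting pair generate. -/
theorem gen_perp (hn : 5 ≤ n) {x y : M} (hxx : H x x = 0) (hyy : H y y = 0) (hxy : H x y ≠ 0) :
    Subgroup.closure {g : SU n F 2 | ∃ p : M, p ≠ 0 ∧ IsTr g p ∧ (H p x = 0 ∨ H p y = 0)} = ⊤ := by
  set L := Subgroup.closure {g : SU n F 2 | ∃ p : M, p ≠ 0 ∧ IsTr g p ∧ (H p x = 0 ∨ H p y = 0)}
    with hL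
  set y' := H x y • y with hy'
  have hy'y : H y' y' = 0 := by rw [hy', hsl K, hsr K, hyy, mul_zero, mul_zero]
  have hxy' : H x y' = 1 := by rw [hy', hsr K, norm_one' K hxy]
  have hmem : ∀ {g : SU n F 2} {p : M}, p ≠ 0 → IsTr g p → (H p x = 0 ∨ H p y' = 0) → g ∈ L := by
    intro g p hp hg h
    refine Subgroup.subset_closure ⟨p, hp, hg, h.imp id fun h => ?_⟩
    rw [hy', hsr K] at h
    exact (mul_eq_zero.1 h).resolve_left ((map_ne_zero K.bar).2 hxy)
  have hall : ∀ {g : SU n F 2} {p : M}, p ≠ 0 → IsTr g p → g ∈ L := by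
    intro g p hp hg
    by_cases h : H p x = 0 ∨ H p y' = 0
    · exact hmem hp hg h
    push Not at h
    obtain ⟨a, haa, hax, ha0, hb0, hby⟩ := exists_via K hn hxx hy'y hxy' hg.1 h.1 h.2
    obtain ⟨A, hA⟩ := exists_tr K haa
    have hB := tr_conj K hg A
    rw [hA.2] at hB
    have hBmem := hmem hb0 hB (Or.inr hby)
    have hAmem := hmem ha0 hA (Or.inl hax)
    have := mul_mem (mul_mem (inv_mem hAmem) hBmem) hAmem
    rwa [show A⁻¹ * (A * g * A⁻¹) * A = g by group] at this
  rw [eq_top_iff, ← gen_top K (n := n) (by omega) (by omega)]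
  refine (Subgroup.closure_le _).2 ?_
  rintro g ⟨v, -, c, hv, hc, hT⟩
  have h1 : (v = 0 ∨ c = 0) → g = 1 := fun h => ext_app fun x => by
    rw [hT, app_one]
    rcases h with h | h
    · rw [h, smul_zero, add_zero]
    · rw [h, zero_mul, zero_smul, add_zero]
  have hc' : K.bar c = c := by linear_combination hc - c * h2 K
  rcases real_cases K hc' with rfl | rfl
  · rw [h1 (Or.inr rfl)]; exact one_mem _
  by_cases hv0 : v = 0
  · rw [h1 (Or.inl hv0)]; exact one_mem _
  exact hall hv0 ((isT_iff K).1 ⟨hv, hc, hT⟩)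

/-- Five transvections on an isotropic line. -/
theorem five (hn : 4 ≤ n) : ∃ l : List (SU n F 2), l.length = 5 ∧ l.prod = 1 ∧
    (∀ g ∈ l, ∃ p : M, p ≠ 0 ∧ IsTr g p) ∧ ∀ g ∈ l, ∀ h ∈ l, Commute g h := by
  obtain ⟨ω, hω0, hω, hωω⟩ := exists_omega K
  set x : M := Pi.single ⟨0, by omega⟩ 1 + Pi.single ⟨1, by omega⟩ 1 with hx
  set y : M := Pi.single ⟨2, by omega⟩ 1 + Pi.single ⟨3, by omega⟩ 1 with hy
  have hxx : H x x = 0 := by
    simp [hx, hal K, har K, h_single_single K, Fin.ext_iff, addself' K]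
  have hyy : H y y = 0 := by
    simp [hy, hal K, har K, h_single_single K, Fin.ext_iff, addself' K]
  have hxy : H x y = 0 := by simp [hx, hy, hal K, har K, h_single_single K, Fin.ext_iff]
  have hiso : ∀ a b : F, H (a • x + b • y) (a • x + b • y) = 0 := fun a b => by
    simp [hal K, har K, hsl K, hsr K, hxx, hyy, hxy, hz K hxy]
  have hne : ∀ a b : F, a ≠ 0 ∨ b ≠ 0 → a • x + b • y ≠ 0 := fun a b h e => by
    have e0 := congrFun e ⟨0, by omega⟩
    have e2 := congrFun e ⟨2, by omega⟩
    simp [hx, hy, Fin.ext_iff] at e0 e2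
    tauto
  have horth : ∀ a b c d : F, H (a • x + b • y) (c • x + d • y) = 0 := fun a b c d => by
    simp [hal K, har K, hsl K, hsr K, hxx, hyy, hxy, hz K hxy]
  choose T hT using fun a b : F => exists_tr K (hiso a b)
  set S : List (SU n F 2) := [T 1 0, T 1 1, T 1 ω, T 1 (ω + 1), T 0 1] with hS
  have hmem : ∀ g ∈ S, ∃ a b : F, (a ≠ 0 ∨ b ≠ 0) ∧ g = T a b := by
    intro g hg
    simp only [hS, List.mem_cons, List.not_mem_nil, or_false] at hg
    rcases hg with rfl | rfl | rfl | rfl | rfl <;> exact ⟨_, _, by simp, rfl⟩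
  refine ⟨S, rfl, ?_, fun g hg => ?_, fun g hg h hh => ?_⟩
  · refine ext_app fun z => ?_
    simp only [hS, List.prod_cons, List.prod_nil, mul_one, app_mul, app_one, (hT _ _).2, hal K, har K,
      hsl K, hsr K, hxx, hyy, hxy, hz K hxy, map_one, map_add, map_zero, hω, mul_zero, zero_mul,
      add_zero, zero_add, one_mul, one_smul, zero_smul]
    match_scalars <;> first
      | ring1
      | linear_combination (2 * H z x + (ω + 2) * H z y) * h2 K
      | linear_combination ((1 + ω) * H z x + (ω * ω + 2 * ω + 2) * H z y) * h2 K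
  · obtain ⟨a, b, hab, rfl⟩ := hmem g hg
    exact ⟨_, hne a b hab, hT a b⟩
  · obtain ⟨a, b, -, rfl⟩ := hmem g hg
    obtain ⟨c, d, -, rfl⟩ := hmem h hh
    exact tr_commute_tr K (hT a b) (hT c d) (horth a b c d)

end CfsgLib.ThreeTransp.TwoRadical.Geom
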