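import Cfsg.Prelude.Def_Local
import Cfsg.Agent.Lib.Fitting.Basic
import Cfsg.Agent.Lib.Schur.UnitarySmall
import Cfsg.Agent.Lib.ThreeTransp.TwoRadical.Basic
import Cfsg.Agent.Lib.ThreeTransp.TwoRadical.GeomGen

/-!
A class of 3-transpositions over a normal 2-subgroup with quotient `SU_5(2)` or `SU_7(2)` and trivial
centre: the kernel is elementary abelian.
-/

set_option autoImplicit false
set_option linter.unusedSectionVars false
set_option linter.style.haveILetI false

namespace CfsgLib.ThreeTransp.TwoRadical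

open Cfsg CfsgLib.Classical.Herm Geom
open CfsgLib.ClassicalAut (Unitary.Conj)
open scoped commutatorElement

universe u

variable {F : Type} [Field F] [Fintype F] (K : Unitary.Conj F 2) {n : ℕ} {G : Type u} [Group G]
  [Finite G] {π : G →* SU n F 2} {D : Set G}

include K

theorem perfect_two (hn : 4 ≤ n) : commutator (SU n F 2) = ⊤ :=
  haveI : CharP F 2 := CharTwo.of_one_ne_zero_of_two_eq_zero one_ne_zero (Geom.h2 K)
  commutator_eq_top K 2 (by omega) (by omega)

theorem not_mem_ker (hn : 4 ≤ n) (S : Setup π D) {d : G} (hd : d ∈ D) : π d ≠ 1 := by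
  intro h1
  have hgen : Subgroup.closure D ≤ π.ker := (Subgroup.closure_le _).mpr fun x hx => by
    obtain ⟨g, rfl⟩ := class_exists_conj S.cls hd hx
    rw [SetLike.mem_coe, MonoidHom.mem_ker, map_mul, map_mul, h1, mul_one, ← map_mul, mul_inv_cancel,
      map_one]
  rw [S.cls.2.2] at hgen
  obtain ⟨l, -, -, hl, -⟩ := five K (n := n) hn
  obtain ⟨v, hv⟩ := exists_tr K (v := (0 : Fin n → F)) (h0r K _)
  obtain ⟨l, hlen, -, hl, -⟩ := five K (n := n) hn
  match l, hlen, hl with
  | g :: _, _, hl =>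
    obtain ⟨p, hp, hg⟩ := hl g (List.mem_cons_self ..)
    obtain ⟨x, rfl⟩ := S.surj g
    exact tr_ne_one K hg hp (hgen (Subgroup.mem_top x))

theorem image_class (hn : 4 ≤ n) (S : Setup π D) : IsThreeTranspositionClass (π '' D) :=
  class_image π S.surj S.cls fun _ => not_mem_ker K hn S

theorem exists_centre (hn : 4 ≤ n) (S : Setup π D) {d : G} (hd : d ∈ D) :
    ∃ p : Fin n → F, p ≠ 0 ∧ IsTr (π d) p :=
  class_tr K hn (image_class K hn S) ⟨d, hd, rfl⟩

theorem exists_lift (hn : 4 ≤ n) (S : Setup π D) {g : SU n F 2} {p : Fin n → F} (hp : p ≠ 0)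
    (hg : IsTr g p) : ∃ d ∈ D, π d = g := by
  classical
  exact tr_mem K hn (image_class K hn S) hp hg

theorem covers (hn : 5 ≤ n) (S : Setup π D) : Covers π D := by
  intro d hd f hf hdf
  obtain ⟨x, -, hx⟩ := exists_centre K (by omega) S hd
  obtain ⟨y, -, hy⟩ := exists_centre K (by omega) S hf
  have hxy : hermForm n F 2 x y ≠ 0 := fun h => hdf (tr_commute_tr K hx hy h)
  rw [eq_top_iff, ← gen_perp K hn hx.1 hy.1 hxy]
  refine Subgroup.closure_mono ?_
  rintro g ⟨p, hp, hg, hc⟩
  obtain ⟨e, he, rfl⟩ := exists_lift K (by omega) S hp hg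
  exact ⟨e, ⟨he, hc.imp (tr_commute_tr K hg hx) (tr_commute_tr K hg hy)⟩, rfl⟩

/-- A list of five pairwise commuting members with product in the kernel. -/
theorem exists_five (hn : 4 ≤ n) (S : Setup π D) : ∃ l : List G, l.length = 5 ∧ l.prod ∈ π.ker ∧
    (∀ g ∈ l, g ∈ D) ∧ ∀ g ∈ l, ∀ h ∈ l, Commute (π g) (π h) := by
  obtain ⟨l, hlen, hprod, hl, hc⟩ := five K (n := n) hn
  have h : ∀ g ∈ l, ∃ d ∈ D, π d = g := fun g hg => by
    obtain ⟨p, hp, ht⟩ := hl g hg
    exact exists_lift K hn S hp ht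
  choose s hsD hs using h
  refine ⟨l.pmap s fun _ h => h, by rw [List.length_pmap, hlen], ?_, ?_, ?_⟩
  · rw [MonoidHom.mem_ker, map_list_prod, List.map_pmap]
    simp only [hs, List.pmap_eq_map, List.map_id']
    exact hprod
  · intro g hg
    obtain ⟨a, ha, rfl⟩ := List.mem_pmap.1 hg
    exact hsD a ha
  · intro g hg h hh
    obtain ⟨a, ha, rfl⟩ := List.mem_pmap.1 hg
    obtain ⟨b, hb, rfl⟩ := List.mem_pmap.1 hh
    rw [hs, hs]
    exact hc a ha b hb

/-- A central extension of the quotient by an image of the group is trivial. -/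
theorem ker_le (hn : n = 5 ∨ 7 ≤ n) (S : Setup π D) {M : Subgroup G} [M.Normal] (hM : M ≤ π.ker)
    (hc : ∀ x ∈ π.ker, ∀ g : G, x⁻¹ * (g * x * g⁻¹) ∈ M) {l : List G} (hlen : l.length = 5)
    (hl : ∀ g ∈ l, g ∈ D) (hv : l.prod ∈ M) : π.ker ≤ M := by
  have hn4 : 4 ≤ n := by omega
  set ρ := QuotientGroup.mk' M with hρ
  set τ := QuotientGroup.lift M π hM with hτ
  have hτρ : ∀ g, τ (ρ g) = π g := fun g => rfl
  have hcent : τ.ker ≤ Subgroup.center (G ⧸ M) := by
    intro x hx
    obtain ⟨x, rfl⟩ := QuotientGroup.mk'_surjective M x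
    refine Subgroup.mem_center_iff.2 fun y => ?_
    obtain ⟨g, rfl⟩ := QuotientGroup.mk'_surjective M y
    have h : ρ (x⁻¹ * (g * x * g⁻¹)) = 1 := (QuotientGroup.eq_one_iff _).2 (hc x hx g)
    rw [map_mul, map_inv, inv_mul_eq_one, map_mul, map_mul, map_inv] at h
    conv_rhs => rw [← hρ, h]
    rw [inv_mul_cancel_right]
  have hτs : Function.Surjective τ := fun q => by
    obtain ⟨g, rfl⟩ := S.surj q
    exact ⟨ρ g, rfl⟩
  set E := commutator (G ⧸ M) with hE
  have hEmap : E.map τ = ⊤ := by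
    rw [hE, commutator_def, Subgroup.map_commutator, Subgroup.map_top_of_surjective _ hτs,
      ← commutator_def]
    exact perfect_two K hn4
  have hEE : ∀ a b : G ⧸ M, ⁅a, b⁆ ∈ ⁅E, E⁆ := by
    have hdec : ∀ a : G ⧸ M, ∃ a' ∈ E, ∃ z ∈ Subgroup.center (G ⧸ M), a = a' * z := fun a => by
      obtain ⟨a', ha', h⟩ : τ a ∈ E.map τ := hEmap ▸ Subgroup.mem_top _
      exact ⟨a', ha', a'⁻¹ * a, hcent (by rw [MonoidHom.mem_ker, map_mul, map_inv, h, inv_mul_cancel]),
        (mul_inv_cancel_left a' a).symm⟩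
    intro a b
    obtain ⟨a', ha', z, hz, rfl⟩ := hdec a
    obtain ⟨b', hb', w, hw, rfl⟩ := hdec b
    have hz' := fun g => (Subgroup.mem_center_iff.1 hz g).symm
    have hw' := fun g => (Subgroup.mem_center_iff.1 hw g).symm
    have : ⁅a' * z, b' * w⁆ = ⁅a', b'⁆ := by
      simp only [commutatorElement_def, mul_inv_rev]
      calc a' * z * (b' * w) * (z⁻¹ * a'⁻¹) * (w⁻¹ * b'⁻¹)
          = a' * (z * (b' * w)) * z⁻¹ * a'⁻¹ * w⁻¹ * b'⁻¹ := by group
        _ = a' * (b' * (w * a'⁻¹)) * w⁻¹ * b'⁻¹ := by rw [hz']; group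
        _ = a' * b' * a'⁻¹ * b'⁻¹ := by rw [hw']; group
    rw [this]
    exact Subgroup.commutator_mem_commutator ha' hb'
  have hperf : commutator ↥E = ⊤ := by
    refine eq_top_iff.2 fun x _ => ?_
    have hle : E ≤ (commutator ↥E).map E.subtype := by
      rw [commutator_def ↥E, Subgroup.map_commutator, ← MonoidHom.range_eq_map, E.range_subtype,
        hE, commutator_def]
      exact Subgroup.commutator_le.2 fun a _ b _ => hEE a b
    obtain ⟨y, hy, hxy⟩ := hle x.2
    rwa [← Subtype.ext hxy]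
  -- restrict to the derived group
  have hker : (τ.comp E.subtype).ker = ⊥ := by
    obtain ⟨k, ⟨φ⟩⟩ := Finite.exists_equiv_fin ↥E
    set f : ↥E →* Equiv.Perm (Fin k) :=
      φ.permCongrHom.toMonoidHom.comp (MulAction.toPermHom ↥E ↥E) with hf
    have hfinj : Function.Injective f :=
      φ.permCongrHom.injective.comp MulAction.toPerm_injective
    let ψ : ↥f.range ≃* ↥E := (MonoidHom.ofInjective hfinj).symm
    set σ := (τ.comp E.subtype).comp ψ.toMonoidHom with hσ
    have hstem : Cfsg.IsStemExtension σ := by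
      refine ⟨?_, fun x hx => Subgroup.mem_center_iff.2 fun y => ?_, fun x _ => ?_⟩
      · intro q
        obtain ⟨e, he, rfl⟩ : q ∈ E.map τ := hEmap ▸ Subgroup.mem_top _
        exact ⟨ψ.symm ⟨e, he⟩, by simp [hσ]⟩
      · have := Subgroup.mem_center_iff.1 (hcent (show ((ψ x : ↥E) : G ⧸ M) ∈ τ.ker from hx))
          ((ψ y : ↥E) : G ⧸ M)
        exact ψ.injective (Subtype.ext (by simpa using this))
      · have h := Subgroup.mem_map_of_mem ψ.symm.toMonoidHom (hperf ▸ Subgroup.mem_top (ψ x) :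
          ψ x ∈ commutator ↥E)
        rw [commutator_def, Subgroup.map_commutator, MulEquiv.coe_toMonoidHom,
          MulEquiv.symm_apply_apply] at h
        exact Subgroup.commutator_mono le_top le_top h
    haveI : CharP F 2 := CharTwo.of_one_ne_zero_of_two_eq_zero one_ne_zero (Geom.h2 K)
    have hinj := CfsgLib.Schur.UnitarySmall.stem_injective K 2 K.card (n := n) (by omega) (by omega)
      (by omega) ↥f.range σ hstem
    rw [← le_bot_iff]
    intro x hx
    have : ψ.symm x = 1 := hinj (by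
      rw [map_one, hσ]
      simpa using hx)
    simpa using this
  -- all members have their images in the derived group
  set α := QuotientGroup.mk' E with hα
  have hcomm : ∀ a b : (G ⧸ M) ⧸ E, a * b = b * a := fun a b => by
    obtain ⟨a, rfl⟩ := QuotientGroup.mk'_surjective E a
    obtain ⟨b, rfl⟩ := QuotientGroup.mk'_surjective E b
    rw [← commutatorElement_eq_one_iff_mul_comm, ← map_commutatorElement]
    exact (QuotientGroup.eq_one_iff _).2 (Subgroup.commutator_mem_commutator (Subgroup.mem_top a)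
      (Subgroup.mem_top b))
  obtain ⟨d₀, hd₀, -⟩ := S.cls.2.1
  set c := α (ρ d₀) with hcdef
  have hconst : ∀ d ∈ D, α (ρ d) = c := fun d hd => by
    obtain ⟨g, rfl⟩ := class_exists_conj S.cls hd₀ hd
    rw [map_mul, map_mul, map_mul, map_mul, hcomm (α (ρ g)), mul_assoc, ← map_mul α, ← map_mul ρ,
      mul_inv_cancel, map_one, map_one, mul_one]
  have hc2 : c * c = 1 := by rw [hcdef, ← map_mul, ← map_mul, S.self hd₀, map_one, map_one]
  have hc5 : c ^ 5 = 1 := by
    have h1 : ρ l.prod = 1 := (QuotientGroup.eq_one_iff _).2 hv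
    have h : α (ρ l.prod) = 1 := by rw [h1, map_one]
    have hrep : (l.map ρ).map α = List.replicate 5 c := by
      refine List.eq_replicate_iff.2 ⟨by rw [List.length_map, List.length_map, hlen], fun y hy => ?_⟩
      obtain ⟨z, hz, rfl⟩ := List.mem_map.1 hy
      obtain ⟨d, hd, rfl⟩ := List.mem_map.1 hz
      exact hconst d (hl d hd)
    rwa [map_list_prod, map_list_prod, hrep, List.prod_replicate] at h
  have hc1 : c = 1 := by
    rw [show c ^ 5 = c * c * (c * c) * c by simp [pow_succ, mul_assoc], hc2, one_mul, one_mul] at hc5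
    exact hc5
  have hEtop : ∀ g : G, ρ g ∈ E := fun g => by
    have hle : Subgroup.closure D ≤ E.comap ρ := (Subgroup.closure_le _).2 fun d hd =>
      (QuotientGroup.eq_one_iff (ρ d)).1 ((hconst d hd).trans hc1)
    exact hle (S.cls.2.2.symm ▸ Subgroup.mem_top g)
  intro x hx
  refine (QuotientGroup.eq_one_iff _).1 ?_
  have : (⟨ρ x, hEtop x⟩ : ↥E) ∈ (τ.comp E.subtype).ker := hx
  rw [hker, Subgroup.mem_bot] at this
  exact congrArg Subtype.val this

/-- The kernel is elementary abelian. -/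
theorem elementary (hn : n = 5 ∨ 7 ≤ n) (S : Setup π D) : IsElementaryAbelian 2 π.ker := by
  have hcov := covers K (by omega) S
  obtain ⟨l, hlen, hker, hl, hc⟩ := exists_five K (by omega) S
  have hne : l ≠ [] := fun e => by simp [e] at hlen
  set v := l.prod with hv
  have hvv : v * v = 1 := by
    have hsq : ∀ {l : List G}, (∀ g ∈ l, g ∈ D) → (∀ g ∈ l, ∀ h ∈ l, Commute (π g) (π h)) →
        l.prod * l.prod = 1 := by
      intro l
      induction l with
      | nil => simp
      | cons a l ih =>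
        intro hl hc
        have hcom : Commute a l.prod := Commute.list_prod_right l a fun b hb =>
          S.comm_of_map (hl a (List.mem_cons_self ..)) (hl b (List.mem_cons_of_mem _ hb))
            (hc a (List.mem_cons_self ..) b (List.mem_cons_of_mem _ hb))
        rw [List.prod_cons, show a * l.prod * (a * l.prod) = a * (l.prod * a) * l.prod by group,
          ← hcom.eq, show a * (a * l.prod) * l.prod = a * a * (l.prod * l.prod) by group,
          S.self (hl a (List.mem_cons_self ..)), one_mul,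
          ih (fun b hb => hl b (List.mem_cons_of_mem _ hb))
            fun b hb b' hb' => hc b (List.mem_cons_of_mem _ hb) b' (List.mem_cons_of_mem _ hb')]
    exact hsq hl hc
  haveI := S.U_normal
  set M := S.U ⊔ Subgroup.zpowers v with hM
  have hMker : M ≤ π.ker := sup_le S.U_le (Subgroup.zpowers_le.2 hker)
  have hcM : ∀ x ∈ π.ker, ∀ g : G, x⁻¹ * (g * x * g⁻¹) ∈ M := fun x hx g =>
    Subgroup.mem_sup_left (S.conj_mem_U hx g)
  haveI : M.Normal := ⟨fun x hx g => by
    have := mul_mem hx (hcM x (hMker hx) g)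
    rwa [mul_inv_cancel_left] at this⟩
  have hle := ker_le K hn S hMker hcM hlen hl (Subgroup.mem_sup_right (Subgroup.mem_zpowers v))
  have hkerM : π.ker = M := le_antisymm hle hMker
  have hMc : M = Subgroup.closure ((S.U : Set G) ∪ {v}) := by
    rw [hM, Subgroup.closure_union, Subgroup.closure_eq, Subgroup.zpowers_eq_closure]
  have hgen : ∀ a ∈ (S.U : Set G) ∪ {v}, ∀ b ∈ (S.U : Set G) ∪ {v}, a * b = b * a := by
    rintro a (ha | rfl) b (hb | rfl)
    · exact S.U_comm hcov ha hb
    · exact (S.prod_centralizes hcov hl hc hne hker ha).symm.eq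
    · exact (S.prod_centralizes hcov hl hc hne hker hb).eq
    · rfl
  have hab := Subgroup.isMulCommutative_closure hgen
  rw [← hMc, ← hkerM] at hab
  refine ⟨hab, fun a ha => ?_⟩
  have hcomm : ∀ x ∈ π.ker, ∀ y ∈ π.ker, x * y = y * x := fun x hx y hy =>
    congrArg Subtype.val (hab.is_comm.comm ⟨x, hx⟩ ⟨y, hy⟩)
  rw [hkerM, hMc] at ha
  induction ha using Subgroup.closure_induction with
  | mem x hx =>
    rcases hx with hx | rfl
    · rw [pow_two]; exact S.U_sq hcov hx
    · rw [pow_two]; exact hvv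
  | one => exact one_pow 2
  | mul x y hx hy hx2 hy2 =>
    rw [← hMc, ← hkerM] at hx hy
    rw [Commute.mul_pow (hcomm x hx y hy), hx2, hy2, one_mul]
  | inv x _ hx2 => rw [inv_pow, hx2, inv_one]

end CfsgLib.ThreeTransp.TwoRadical

namespace CfsgLib.ThreeTransp.TwoRadical

open Cfsg

/-- The hypotheses of the statements. -/
theorem exists_setup {G : Type*} [Group G] [Finite G] {D : Set G}
    (hD : IsThreeTranspositionClass D) (hZ : Subgroup.center G = ⊥) {n : ℕ}
    (hq : ∃ (F : Type) (_ : Field F) (_ : Fintype F), Fintype.card F = 4 ∧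
      Nonempty (G ⧸ Cfsg.pCore 2 G ≃* ↥(Cfsg.SU n F 2))) :
    ∃ (F : Type) (_ : Field F) (_ : Fintype F)
      (_ : CfsgLib.ClassicalAut.Unitary.Conj F 2) (π : G →* ↥(Cfsg.SU n F 2)),
      Setup π D ∧ π.ker = Cfsg.pCore 2 G := by
  obtain ⟨F, i1, i2, hF, ⟨e⟩⟩ := hq
  obtain ⟨K⟩ := CfsgLib.Classical.Herm.exists_conj_of_card (F := F) (q := 2) (by rw [hF]; norm_num)
  set π := e.toMonoidHom.comp (QuotientGroup.mk' (Cfsg.pCore 2 G)) with hπ
  have hker : π.ker = Cfsg.pCore 2 G := by
    ext x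
    simp [hπ, MonoidHom.mem_ker, QuotientGroup.eq_one_iff]
  exact ⟨F, i1, i2, K, π, ⟨hD, e.surjective.comp (QuotientGroup.mk'_surjective _),
    hker ▸ CfsgLib.Fitting.pCore_isPGroup 2, hZ⟩, hker⟩

end CfsgLib.ThreeTransp.TwoRadical
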