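import Cfsg.Agent.Lib.ThreeTransp.TwoRadical.GeomGen

/-!
The elements of order three of `SU_5(2)` attached to unit vectors, their description by orthonormal
frames, and the orthogonality graph of unit vectors.
-/

set_option autoImplicit false
set_option linter.unusedSectionVars false
set_option linter.style.haveILetI false

namespace CfsgLib.ThreeTransp.TwoRadical.Geom

open Matrix Cfsg CfsgLib.Classical.Herm
open CfsgLib.ClassicalAut (Unitary.Conj Unitary.space)

variable {F : Type} [Field F] [Fintype F] (K : Unitary.Conj F 2)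

local notation "H" => hermForm 5 F 2
local notation "M" => (Fin 5 → F)

/-- An orthonormal frame. -/
structure Frame (a b c d e : M) : Prop where
  aa : H a a = 1
  bb : H b b = 1
  cc : H c c = 1
  dd : H d d = 1
  ee : H e e = 1
  ab : H a b = 0
  ac : H a c = 0
  ad : H a d = 0
  ae : H a e = 0
  bc : H b c = 0
  bd : H b d = 0
  be : H b e = 0
  cd : H c d = 0
  ce : H c e = 0
  de : H d e = 0

include K

theorem frame_nondeg {a b c d e : M} (hf : Frame a b c d e) {x : M} (h1 : H x a = 0) (h2 : H x b = 0)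
    (h3 : H x c = 0) (h4 : H x d = 0) (h5 : H x e = 0) : x = 0 := by
  have hon : CfsgLib.Schur.UnitaryGeom.ON (q := 2) ![a, b, c, d, e] := by
    intro i j
    fin_cases i <;> fin_cases j <;>
      simp [hf.aa, hf.bb, hf.cc, hf.dd, hf.ee, hf.ab, hf.ac, hf.ad, hf.ae, hf.bc, hf.bd, hf.be,
        hf.cd, hf.ce, hf.de, hz K hf.ab, hz K hf.ac, hz K hf.ad, hz K hf.ae, hz K hf.bc, hz K hf.bd,
        hz K hf.be, hz K hf.cd, hz K hf.ce, hz K hf.de]
  have hspan := (CfsgLib.Schur.UnitaryGeom.indep K hon).span_eq_top_of_card_eq_finrank (by simp)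
  refine (Unitary.space (n := 5) K).nondeg x fun z => hz K ?_
  have hmem : z ∈ Submodule.span F (Set.range ![a, b, c, d, e]) := hspan ▸ Submodule.mem_top
  induction hmem using Submodule.span_induction with
  | mem y hy => obtain ⟨i, rfl⟩ := hy; fin_cases i <;> assumption
  | zero => exact h0r K x
  | add y y' _ _ h h' => rw [har K, h, h', add_zero]
  | smul t y _ h => rw [hsr K, h, mul_zero]

theorem frame_ext {a b c d e : M} (hf : Frame a b c d e) {g g' : SU 5 F 2}
    (h1 : app g a = app g' a) (h2 : app g b = app g' b) (h3 : app g c = app g' c)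
    (h4 : app g d = app g' d) (h5 : app g e = app g' e) : g = g' := by
  refine ext_app fun x => ?_
  have hx : x = H x a • a + H x b • b + H x c • c + H x d • d + H x e • e := by
    rw [← sub_eq_zero]
    set r := H x a • a + H x b • b + H x c • c + H x d • d + H x e • e with hr
    rw [sub_eq_add_neg, show -r = r from neg_eq_of_add_eq_zero_right (addself K r), hr]
    refine frame_nondeg K hf ?_ ?_ ?_ ?_ ?_
    all_goals
      simp only [hal K, hsl K, hf.aa, hf.bb, hf.cc, hf.dd, hf.ee, hf.ab, hf.ac, hf.ad, hf.ae, hf.bc,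
        hf.bd, hf.be, hf.cd, hf.ce, hf.de, hz K hf.ab, hz K hf.ac, hz K hf.ad, hz K hf.ae, hz K hf.bc,
        hz K hf.bd, hz K hf.be, hz K hf.cd, hz K hf.ce, hz K hf.de, mul_zero, mul_one, add_zero,
        zero_add, addself' K]
  rw [hx]
  simp only [app_add, app_smul, h1, h2, h3, h4, h5]

/-- A unit vector orthogonal to four vectors spanning a nondegenerate space. -/
theorem unit_four {f₁ f₂ f₃ f₄ : M} (h1 : H f₁ f₁ = 1) (h2 : H f₂ f₂ = 1) (h3 : H f₃ f₃ = 1)
    (h4 : H f₄ f₄ = 1) (h12 : H f₁ f₂ = 0) (h13 : H f₁ f₃ = 0) (h14 : H f₁ f₄ = 0)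
    (h23 : H f₂ f₃ = 0) (h24 : H f₂ f₄ = 0) (h34 : H f₃ f₄ = 0) :
    ∃ z, H z z = 1 ∧ H z f₁ = 0 ∧ H z f₂ = 0 ∧ H z f₃ = 0 ∧ H z f₄ = 0 := by
  have hon : CfsgLib.Schur.UnitaryGeom.ON (q := 2) ![f₁, f₂, f₃, f₄] := by
    intro i j
    fin_cases i <;> fin_cases j <;>
      simp [h1, h2, h3, h4, h12, h13, h14, h23, h24, h34, hz K h12, hz K h13, hz K h14, hz K h23,
        hz K h24, hz K h34]
  obtain ⟨z, hz', hzf⟩ := CfsgLib.Schur.UnitaryGeom.exists_orth_unit K ![f₁, f₂, f₃, f₄] hon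
    (fun i => Submodule.subset_span ⟨i, rfl⟩) (by omega)
  exact ⟨z, hz', hzf 0, hzf 1, hzf 2, hzf 3⟩

/-- A frame through three orthonormal vectors. -/
theorem exists_frame_three {a b e : M} (haa : H a a = 1) (hbb : H b b = 1) (hee : H e e = 1)
    (hab : H a b = 0) (hae : H a e = 0) (hbe : H b e = 0) : ∃ c d, Frame a b c d e := by
  obtain ⟨c, hcc, hca, hcb, hce⟩ := unit_three K (n := 5) le_rfl haa hbb hab
    (f₁ := a) (f₂ := b) (f₃ := e) (Submodule.subset_span ⟨0, rfl⟩) (Submodule.subset_span ⟨1, rfl⟩)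
  obtain ⟨d, hdd, hda, hdb, hdc, hde⟩ := unit_four K haa hbb hcc hee hab (hz K hca) hae (hz K hcb)
    hbe hce
  exact ⟨c, d, haa, hbb, hcc, hdd, hee, hab, hz K hca, hz K hda, hae, hz K hcb, hz K hdb, hbe,
    hz K hdc, hce, hde⟩

/-- A common neighbour of two unit vectors. -/
theorem exists_common {e p : M} (hee : H e e = 1) :
    ∃ a, H a a = 1 ∧ H a e = 0 ∧ H a p = 0 := by
  obtain ⟨z, hz', hzf⟩ := CfsgLib.Schur.UnitaryGeom.exists_orth_unit K ![e, p]
    (CfsgLib.Schur.UnitaryGeom.on_one K hee)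
    (fun i => by fin_cases i; exact Submodule.subset_span ⟨0, rfl⟩) (by omega)
  exact ⟨z, hz', hzf 0, hzf 1⟩

/-- A frame through a vector. -/
theorem exists_frame_one {e : M} (hee : H e e = 1) : ∃ a b c d, Frame a b c d e := by
  obtain ⟨a, haa, hae, -⟩ := exists_common K (p := e) hee
  obtain ⟨b, hbb, hba, hbe⟩ := exists_common K (p := e) haa
  obtain ⟨c, d, h⟩ := exists_frame_three K haa hbb hee (hz K hba) hae hbe
  exact ⟨a, b, c, d, h⟩

/-- A common neighbour of two orthogonal unit vectors and a third one. -/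
theorem exists_common_three {e p q : M} (hpp : H p p = 1) (hqq : H q q = 1) (hpq : H p q = 0) :
    ∃ a, H a a = 1 ∧ H a e = 0 ∧ H a p = 0 ∧ H a q = 0 := by
  obtain ⟨a, ha, h1, h2, h3⟩ := unit_three K (n := 5) le_rfl hpp hqq hpq (f₁ := e) (f₂ := p) (f₃ := q)
    (Submodule.subset_span ⟨1, rfl⟩) (Submodule.subset_span ⟨2, rfl⟩)
  exact ⟨a, ha, h1, h2, h3⟩

/-- Two common neighbours of two non-orthogonal unit vectors are orthogonal or have a common
neighbour among them. -/
theorem link {e p a b : M} (hee : H e e = 1) (hpp : H p p = 1) (hep : H e p ≠ 0)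
    (hne : p ≠ H p e • e) (haa : H a a = 1) (hbb : H b b = 1) (hae : H a e = 0) (hap : H a p = 0)
    (hbe : H b e = 0) (hbp : H b p = 0) :
    H a b = 0 ∨ ∃ c, H c c = 1 ∧ H c e = 0 ∧ H c p = 0 ∧ H c a = 0 ∧ H c b = 0 := by
  obtain ⟨c, hcc, hcp, hce, hca⟩ := exists_common_three K (e := p) hee haa (hz K hae)
  obtain ⟨g₁, g₂, hf⟩ := exists_frame_three K hee haa hcc (hz K hae) (hz K hce) (hz K hca)
  set r := p + H p e • e with hr
  have hpe : H p e ≠ 0 := fun h => hep (hz K h)
  have hre : H r e = 0 := by rw [hr, hal K, hsl K, hee, mul_one, addself' K]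
  have hrr : H r r = 0 := by
    simp only [hr, hal K, har K, hsl K, hsr K, hee, hpp, h_swap K p e]
    linear_combination 3 * norm_one K hpe + 2 * h2 K
  have hra : H r a = 0 := by rw [hr, hal K, hsl K, hz K hap, hz K hae, mul_zero, add_zero]
  have hrc : H r c = 0 := by rw [hr, hal K, hsl K, hz K hcp, hz K hce, mul_zero, add_zero]
  have hr0 : r ≠ 0 := by
    intro h
    refine hne ?_
    rw [hr] at h
    calc p = p + H p e • e + H p e • e := by rw [add_assoc, addself K, add_zero]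
      _ = H p e • e := by rw [h, zero_add]
  have hexp : ∀ x y : M, H x y = H x e * K.bar (H y e) + H x a * K.bar (H y a) +
      H x g₁ * K.bar (H y g₁) + H x g₂ * K.bar (H y g₂) + H x c * K.bar (H y c) := by
    intro x y
    have hy : y = H y e • e + H y a • a + H y g₁ • g₁ + H y g₂ • g₂ + H y c • c := by
      rw [← sub_eq_zero]
      set r' := H y e • e + H y a • a + H y g₁ • g₁ + H y g₂ • g₂ + H y c • c with hr'
      rw [sub_eq_add_neg, show -r' = r' from neg_eq_of_add_eq_zero_right (addself K r'), hr']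
      refine frame_nondeg K hf ?_ ?_ ?_ ?_ ?_
      all_goals
        simp only [hal K, hsl K, hf.aa, hf.bb, hf.cc, hf.dd, hf.ee, hf.ab, hf.ac, hf.ad, hf.ae, hf.bc,
          hf.bd, hf.be, hf.cd, hf.ce, hf.de, hz K hf.ab, hz K hf.ac, hz K hf.ad, hz K hf.ae,
          hz K hf.bc, hz K hf.bd, hz K hf.be, hz K hf.cd, hz K hf.ce, hz K hf.de, mul_zero, mul_one,
          add_zero, zero_add, addself' K]
    conv_lhs => rw [hy]
    simp only [har K, hsr K]
    ring
  have hbr : H b r = 0 := by rw [hr, har K, hsr K, hbp, hbe, mul_zero, add_zero]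
  have hs := hexp r r
  rw [hrr, hre, hra, hrc] at hs
  simp only [zero_mul, zero_add, add_zero] at hs
  have ht := hexp b r
  rw [hbr, hre, hra, hrc] at ht
  simp only [map_zero, mul_zero, zero_add, add_zero] at ht
  have hb := hexp b b
  rw [hbb, hbe] at hb
  simp only [zero_mul, zero_add] at hb
  have hs1 : H r g₁ ≠ 0 := by
    intro h
    rw [h, zero_mul, zero_add] at hs
    rcases mul_eq_zero.1 hs.symm with h' | h'
    · exact hr0 (frame_nondeg K hf hre hra h h' hrc)
    · exact hr0 (frame_nondeg K hf hre hra h ((map_eq_zero K.bar).1 h') hrc)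
  have hs2 : H r g₂ ≠ 0 := by
    intro h
    rw [h, zero_mul, add_zero] at hs
    rcases mul_eq_zero.1 hs.symm with h' | h'
    · exact hs1 h'
    · exact hs1 ((map_eq_zero K.bar).1 h')
  have hn : H b g₁ * K.bar (H b g₁) + H b g₂ * K.bar (H b g₂) = 0 := by
    have e1 : H b g₁ * K.bar (H r g₁) = H b g₂ * K.bar (H r g₂) := by
      linear_combination -ht + -(H b g₂ * K.bar (H r g₂)) * h2 K
    have e2 := congrArg (fun t => t * K.bar t) e1
    simp only [map_mul, K.bar_bar] at e2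
    linear_combination e2 - H b g₁ * K.bar (H b g₁) * norm_one K hs1
      + H b g₂ * K.bar (H b g₂) * norm_one K hs2 + H b g₂ * K.bar (H b g₂) * h2 K
  by_cases hab : H b a = 0
  · exact Or.inl (hz K hab)
  refine Or.inr ⟨c, hcc, hce, hcp, hca, hz K ?_⟩
  by_contra hbc
  rw [norm_one K hab, norm_one K hbc] at hb
  exact one_ne_zero (show (1 : F) = 0 by linear_combination hb + hn + h2 K)

/-- `g` is the element of order three attached to the unit vector `e`. -/
def IsZeta (ω : F) (g : SU 5 F 2) (e : M) : Prop :=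
  ∀ x, app g x = ω • x + hermForm 5 F 2 x e • e

omit K [Fintype F] in
theorem zeta_unique {ω : F} {g g' : SU 5 F 2} {e : M} (h : IsZeta ω g e) (h' : IsZeta ω g' e) :
    g = g' := ext_app fun x => by rw [h, h']

theorem zeta_smul {ω : F} {g : SU 5 F 2} {e : M} (h : IsZeta ω g e) {c : F} (hc : c ≠ 0) :
    IsZeta ω g (c • e) := fun x => by
  rw [h, hsr K, smul_smul, mul_right_comm, norm_one' K hc, one_mul]

theorem zeta_conj {ω : F} {g : SU 5 F 2} {e : M} (h : IsZeta ω g e) (s : SU 5 F 2) :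
    IsZeta ω (s * g * s⁻¹) (app s e) := by
  intro x
  obtain ⟨y, rfl⟩ : ∃ y, x = app s y := ⟨app s⁻¹ x, (app_inv' s x).symm⟩
  rw [app_mul, app_mul, app_inv, h, app_add, app_smul, app_smul, h_app]

theorem zeta_commute {ω : F} {g g' : SU 5 F 2} {e e' : M} (hω : ω ≠ 0) (h : IsZeta ω g e)
    (h' : IsZeta ω g' e') (ho : H e' e = 0) : Commute g g' := by
  have h1 := zeta_conj K h' g
  rw [h, ho, zero_smul, add_zero] at h1
  exact mul_inv_eq_iff_eq_mul.1 (zeta_unique h1 (zeta_smul K h' hω))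

theorem zeta_commute_tr {ω : F} {g t : SU 5 F 2} {e v : M} (hω : ω ≠ 0) (h : IsZeta ω g e)
    (ht : IsTr t v) (ho : H v e = 0) : Commute g t := by
  have h1 := tr_conj K ht g
  rw [h, ho, zero_smul, add_zero] at h1
  exact mul_inv_eq_iff_eq_mul.1 (tr_unique h1 (tr_smul K ht hω))

/-- The scalar element on three orthonormal vectors, as a product of four transvections. -/
theorem exists_scal {ω : F} (hω0 : ω ≠ 0) (hω : K.bar ω = ω + 1) (hωω : ω * ω = ω + 1) {a b c : M}
    (haa : H a a = 1) (hbb : H b b = 1) (hcc : H c c = 1) (hab : H a b = 0) (hac : H a c = 0)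
    (hbc : H b c = 0) :
    ∃ l : List (SU 5 F 2), (∀ g ∈ l, ∃ p, p ≠ 0 ∧ IsTr g p ∧
        ∀ z, H z a = 0 → H z b = 0 → H z c = 0 → H z p = 0) ∧
      app l.prod a = ω • a ∧ app l.prod b = ω • b ∧ app l.prod c = ω • c ∧
      ∀ z, H z a = 0 → H z b = 0 → H z c = 0 → app l.prod z = z := by
  have hba := hz K hab
  have hca := hz K hac
  have hcb := hz K hbc
  have hiso : ∀ {f g : M} (t : F), H f f = 1 → H g g = 1 → H f g = 0 → t ≠ 0 →
      H (f + t • g) (f + t • g) = 0 ∧ f + t • g ≠ 0 := fun {f g} t hf hg hfg ht =>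
    ⟨by simp only [hal K, har K, hsl K, hsr K, hf, hg, hfg, hz K hfg]
        linear_combination norm_one K ht + h2 K,
     fun e => by
      have h := congrArg (fun x => H x f) e
      simp only [hal K, hsl K, hf, hz K hfg, mul_zero, add_zero, hz K (h0r K f)] at h
      exact one_ne_zero h⟩
  obtain ⟨i1, n1⟩ := hiso (1 : F) haa hbb hab one_ne_zero
  obtain ⟨i2, n2⟩ := hiso ω haa hbb hab hω0
  obtain ⟨i3, n3⟩ := hiso (1 : F) hcc hbb hcb one_ne_zero
  obtain ⟨i4, n4⟩ := hiso ω hcc hbb hcb hω0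
  obtain ⟨t1, h1⟩ := exists_tr K i1
  obtain ⟨t2, h2'⟩ := exists_tr K i2
  obtain ⟨t3, h3⟩ := exists_tr K i3
  obtain ⟨t4, h4⟩ := exists_tr K i4
  refine ⟨[t1, t2, t3, t4], ?_, ?_, ?_, ?_, ?_⟩
  · intro g hg
    simp only [List.mem_cons, List.not_mem_nil, or_false] at hg
    rcases hg with rfl | rfl | rfl | rfl
    exacts [⟨_, n1, h1, fun z z1 z2 _ => by rw [har K, hsr K, z1, z2, mul_zero, add_zero]⟩,
      ⟨_, n2, h2', fun z z1 z2 _ => by rw [har K, hsr K, z1, z2, mul_zero, add_zero]⟩,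
      ⟨_, n3, h3, fun z _ z2 z3 => by rw [har K, hsr K, z3, z2, mul_zero, add_zero]⟩,
      ⟨_, n4, h4, fun z _ z2 z3 => by rw [har K, hsr K, z3, z2, mul_zero, add_zero]⟩]
  pick_goal 4
  · intro z z1 z2 z3
    simp only [List.prod_cons, List.prod_nil, mul_one, app_mul, h1.2, h2'.2, h3.2, h4.2, hal K, har K,
      hsl K, hsr K, z1, z2, z3, mul_zero, add_zero, zero_smul]
  all_goals
    simp only [List.prod_cons, List.prod_nil, mul_one, app_mul, h1.2, h2'.2, h3.2, h4.2, hal K,
      har K, hsl K, hsr K, haa, hbb, hcc, hab, hac, hbc, hba, hca, hcb, map_one, hω, mul_zero,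
      zero_mul, add_zero, zero_add, one_smul, zero_smul]
  all_goals
    have h2' : (2 : F) = 0 := h2 K
    match_scalars <;> first
      | ring1
      | grind

/-- Existence of the element attached to a unit vector, with its decomposition along a frame. -/
theorem zeta_of_frame {ω : F} (hω0 : ω ≠ 0) (hω : K.bar ω = ω + 1) (hωω : ω * ω = ω + 1)
    {a b c d e : M} (hf : Frame a b c d e) {l₁ l₂ : SU 5 F 2}
    (h1 : app l₁ a = ω • a ∧ app l₁ b = ω • b ∧ app l₁ e = ω • e ∧
      ∀ z, H z a = 0 → H z b = 0 → H z e = 0 → app l₁ z = z)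
    (h2' : app l₂ c = ω • c ∧ app l₂ d = ω • d ∧ app l₂ e = ω • e ∧
      ∀ z, H z c = 0 → H z d = 0 → H z e = 0 → app l₂ z = z) :
    IsZeta ω (l₁ * l₂) e := by
  obtain ⟨p1, p2, p3, p4⟩ := h1
  obtain ⟨q1, q2, q3, q4⟩ := h2'
  intro x
  have hx : x = H x a • a + H x b • b + H x c • c + H x d • d + H x e • e := by
    rw [← sub_eq_zero]
    set r := H x a • a + H x b • b + H x c • c + H x d • d + H x e • e with hr
    rw [sub_eq_add_neg, show -r = r from neg_eq_of_add_eq_zero_right (addself K r), hr]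
    refine frame_nondeg K hf ?_ ?_ ?_ ?_ ?_
    all_goals
      simp only [hal K, hsl K, hf.aa, hf.bb, hf.cc, hf.dd, hf.ee, hf.ab, hf.ac, hf.ad, hf.ae, hf.bc,
        hf.bd, hf.be, hf.cd, hf.ce, hf.de, hz K hf.ab, hz K hf.ac, hz K hf.ad, hz K hf.ae, hz K hf.bc,
        hz K hf.bd, hz K hf.be, hz K hf.cd, hz K hf.ce, hz K hf.de, mul_zero, mul_one, add_zero,
        zero_add, addself' K]
  have qa : app l₂ a = a := q4 a hf.ac hf.ad hf.ae
  have qb : app l₂ b = b := q4 b hf.bc hf.bd hf.be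
  have pc : app l₁ c = c := p4 c (hz K hf.ac) (hz K hf.bc) hf.ce
  have pd : app l₁ d = d := p4 d (hz K hf.ad) (hz K hf.bd) hf.de
  conv_lhs => rw [hx]
  conv_rhs => arg 1; rw [hx]
  simp only [app_add, app_smul, app_mul, qa, qb, q1, q2, q3, p1, p2, p3, pc, pd]
  match_scalars <;> first
    | ring1
    | linear_combination H x e * hωω

theorem exists_zeta {ω : F} (hω0 : ω ≠ 0) (hω : K.bar ω = ω + 1) (hωω : ω * ω = ω + 1) {e : M}
    (hee : H e e = 1) : ∃ g, IsZeta ω g e := by
  obtain ⟨a, b, c, d, hf⟩ := exists_frame_one K hee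
  obtain ⟨l₁, -, h1⟩ := exists_scal K hω0 hω hωω hf.aa hf.bb hf.ee hf.ab hf.ae hf.be
  obtain ⟨l₂, -, h2'⟩ := exists_scal K hω0 hω hωω hf.cc hf.dd hf.ee hf.cd hf.ce hf.de
  exact ⟨_, zeta_of_frame K hω0 hω hωω hf h1 h2'⟩

/-- Five transvections on the line through two orthogonal isotropic vectors. -/
theorem five_line {ω : F} (hω : K.bar ω = ω + 1) {x u : M} {t0 t1 t2 t3 t4 : SU 5 F 2}
    (hxx : H x x = 0) (huu : H u u = 0) (hxu : H x u = 0) (h0 : IsTr t0 x) (h1 : IsTr t1 (x + u))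
    (h2' : IsTr t2 (x + ω • u)) (h3 : IsTr t3 (x + (ω + 1) • u)) (h4 : IsTr t4 u) :
    t0 * t1 * t2 * t3 * t4 = 1 := by
  refine ext_app fun z => ?_
  simp only [app_mul, app_one, h0.2, h1.2, h2'.2, h3.2, h4.2, hal K, har K, hsl K, hsr K, hxx, huu,
    hxu, hz K hxu, map_one, map_add, hω, mul_zero, zero_mul, add_zero, zero_add, one_mul, one_smul,
    zero_smul]
  match_scalars <;> first
    | ring1
    | linear_combination (2 * H z x + (ω + 2) * H z u) * h2 K
    | linear_combination ((1 + ω) * H z x + (ω * ω + 2 * ω + 2) * H z u) * h2 K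

end CfsgLib.ThreeTransp.TwoRadical.Geom
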