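import Cfsg.Agent.Lib.ThreeTransp.TwoRadical.Elementary
import Cfsg.Agent.Lib.ThreeTransp.TwoRadical.GeomZeta

/-!
Over `SU_5(2)`, a lift of the element of order three attached to a unit vector fixes nothing in the
kernel but the identity.
-/

set_option autoImplicit false
set_option linter.unusedSectionVars false
set_option linter.style.haveILetI false

namespace CfsgLib.ThreeTransp.TwoRadical

open Cfsg CfsgLib.Classical.Herm Geom
open CfsgLib.ClassicalAut (Unitary.Conj)

universe u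

section Abelian

variable {G : Type u} {Q : Type*} [Group G] [Group Q] [Finite G] {π : G →* Q} {D : Set G}
  (S : Setup π D) (hab : ∀ x ∈ π.ker, ∀ y ∈ π.ker, Commute x y) (hsq : ∀ x ∈ π.ker, x * x = 1)

include hab

/-- Conjugation on the kernel depends only on the image. -/
theorem act_congr {g g' : G} (h : π g = π g') {x : G} (hx : x ∈ π.ker) :
    g * x * g⁻¹ = g' * x * g'⁻¹ := by
  have hk : g'⁻¹ * g ∈ π.ker := by rw [MonoidHom.mem_ker, map_mul, map_inv, h, inv_mul_cancel]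
  calc g * x * g⁻¹ = g' * ((g'⁻¹ * g) * x) * g⁻¹ := by group
    _ = g' * x * g'⁻¹ := by rw [(hab _ hk x hx).eq]; group

include S hsq

/-- The effect of a member on a kernel element. -/
theorem beta_mem {d : G} (hd : d ∈ D) {x : G} (hx : x ∈ π.ker) : x * (d * x * d) ∈ W π d :=
  ⟨x, hx, by rw [inv_eq_of_mul_eq_one_right (hsq x hx)]; group⟩

theorem beta_congr {d d' : G} (hd : d ∈ D) (hd' : d' ∈ D) (h : π d = π d') {x : G} (hx : x ∈ π.ker) :
    x * (d * x * d) = x * (d' * x * d') := by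
  have := act_congr hab h hx
  rw [S.inv_eq hd, S.inv_eq hd'] at this
  rw [this]

/-- An element whose image commutes with that of `d` commutes with `d`'s effects. -/
theorem beta_fix {d z : G} (hd : d ∈ D) (h : Commute (π z) (π d)) {x : G} (hx : x ∈ π.ker)
    (hzx : Commute z x) : Commute z (x * (d * x * d)) := by
  have hd' := S.conj hd z
  have hπ : π (z * d * z⁻¹) = π d := by rw [map_mul, map_mul, map_inv, h.eq, mul_inv_cancel_right]
  refine mul_inv_eq_iff_eq_mul.1 ?_
  have hz : z * x * z⁻¹ = x := mul_inv_eq_iff_eq_mul.2 hzx.eq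
  calc z * (x * (d * x * d)) * z⁻¹
      = z * x * z⁻¹ * (z * d * z⁻¹ * (z * x * z⁻¹) * (z * d * z⁻¹)) := by group
    _ = x * (z * d * z⁻¹ * x * (z * d * z⁻¹)) := by rw [hz]
    _ = x * (d * x * d) := beta_congr S hab hsq hd' hd hπ hx

/-- Five pairwise commuting members with product in the kernel have trivial total effect. -/
theorem five_beta {p0 p1 p2 p3 p4 : G} (hl : ∀ p ∈ [p0, p1, p2, p3, p4], p ∈ D)
    (hc : ∀ p ∈ [p0, p1, p2, p3, p4], ∀ r ∈ [p0, p1, p2, p3, p4], Commute (π p) (π r))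
    (hv : [p0, p1, p2, p3, p4].prod ∈ π.ker) {x : G} (hx : x ∈ π.ker) :
    x * (p0 * x * p0) * (x * (p1 * x * p1) * (x * (p2 * x * p2) * (x * (p3 * x * p3) *
      (x * (p4 * x * p4))))) = 1 := by
  have h := S.prod_conj hab hl hc hx
  rw [mul_inv_eq_of_eq_mul (hab _ hv x hx).eq, inv_eq_of_mul_eq_one_right (hsq x hx)] at h
  have h' := (left_eq_mul.1 h)
  simpa [mul_assoc] using h'

end Abelian

variable {F : Type} [Field F] [Fintype F] (K : Unitary.Conj F 2) {G : Type u} [Group G]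
  [Finite G] {π : G →* SU 5 F 2} {D : Set G} (S : Setup π D)
  (hab : ∀ x ∈ π.ker, ∀ y ∈ π.ker, Commute x y) (hsq : ∀ x ∈ π.ker, x * x = 1)
  {ω : F} (hω0 : ω ≠ 0) (hω : K.bar ω = ω + 1) (hωω : ω * ω = ω + 1)

local notation "H" => hermForm 5 F 2
local notation "M" => (Fin 5 → F)

include K S hab hsq hω0 hω hωω

/-- A lift of the scalar element of three orthonormal vectors as a product of members. -/
theorem exists_scal_lift {a b c : M} (haa : H a a = 1) (hbb : H b b = 1) (hcc : H c c = 1)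
    (hab' : H a b = 0) (hac : H a c = 0) (hbc : H b c = 0) :
    ∃ g : G, (app (π g) a = ω • a ∧ app (π g) b = ω • b ∧ app (π g) c = ω • c ∧
      ∀ z, H z a = 0 → H z b = 0 → H z c = 0 → app (π g) z = z) ∧
      (∀ d ∈ D, ∀ z, IsTr (π d) z → H z a = 0 → H z b = 0 → H z c = 0 →
        ∀ w ∈ W π d, Commute g w) ∧
      ∀ x : G, (∀ d ∈ D, ∀ p, p ≠ 0 → IsTr (π d) p →
        (∀ z, H z a = 0 → H z b = 0 → H z c = 0 → H z p = 0) → Commute d x) → Commute g x := by
  obtain ⟨l, hl, h1, h2', h3, h4⟩ := exists_scal K hω0 hω hωω haa hbb hcc hab' hac hbc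
  have h : ∀ t ∈ l, ∃ d ∈ D, π d = t ∧ ∃ p : M, p ≠ 0 ∧ IsTr t p ∧
      ∀ z, H z a = 0 → H z b = 0 → H z c = 0 → H z p = 0 := fun t ht => by
    obtain ⟨p, hp, htp, hzp⟩ := hl t ht
    obtain ⟨d, hd, he⟩ := exists_lift K (by norm_num) S hp htp
    exact ⟨d, hd, he, p, hp, htp, hzp⟩
  choose s hsD hs hsp using h
  have hπ : π (l.pmap s fun _ h => h).prod = l.prod := by
    rw [map_list_prod, List.map_pmap]
    simp only [hs, List.pmap_eq_map, List.map_id']
  refine ⟨(l.pmap s fun _ h => h).prod, by rw [hπ]; exact ⟨h1, h2', h3, h4⟩, ?_, ?_⟩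
  · intro d hd z hz za zb zc w hw
    refine Commute.list_prod_left _ _ fun g hg => ?_
    obtain ⟨t, ht, rfl⟩ := List.mem_pmap.1 hg
    obtain ⟨p, -, htp, hzp⟩ := hsp t ht
    refine S.W_comm hd (hsD t ht) ?_ hw
    rw [hs]
    exact tr_commute_tr K htp hz (Geom.hz K (hzp z za zb zc))
  · intro x hx
    refine Commute.list_prod_left _ _ fun g hg => ?_
    obtain ⟨t, ht, rfl⟩ := List.mem_pmap.1 hg
    obtain ⟨p, hp, htp, hzp⟩ := hsp t ht
    exact hx _ (hsD t ht) p hp (by rw [hs]; exact htp) hzp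

/-- The commutator set of a member whose centre is orthogonal to a unit vector meets the fixed
points of the lift attached to it trivially. -/
theorem W_zeta {e x : M} (hee : H e e = 1) (hx0 : x ≠ 0) (hxe : H x e = 0) {z d : G}
    (hd : d ∈ D) (hdx : IsTr (π d) x) (hzz : IsZeta ω (π z) e) {w : G} (hw : w ∈ W π d)
    (hzw : Commute z w) : w = 1 := by
  -- the configuration
  obtain ⟨w₀, hw₀⟩ := exists_dual K hx0
  set w' := w₀ + H w₀ e • e with hw'
  have hxw' : H x w' = 1 := by rw [hw', har K, hsr K, hxe, hw₀, mul_zero, add_zero]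
  have hw'e : H w' e = 0 := by rw [hw', hal K, hsl K, hee, mul_one, addself' K]
  have hfix : K.bar (1 + H w' w') = 1 + H w' w' := by rw [map_add, map_one, ← h_swap K w' w']
  obtain ⟨α, hα⟩ := exists_trace K hfix
  set f₁ := w' + α • x with hf₁
  have hxf₁ : H x f₁ = 1 := by rw [hf₁, har K, hsr K, hdx.1, hxw', mul_zero, add_zero]
  have hf₁f₁ : H f₁ f₁ = 1 := by
    simp only [hf₁, hal K, har K, hsl K, hsr K, hdx.1, hxw', h_swap K x w', map_one]
    linear_combination hα + H w' w' * h2 K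
  have hf₁e : H f₁ e = 0 := by rw [hf₁, hal K, hsl K, hw'e, hxe, mul_zero, add_zero]
  set f₂ := x + f₁ with hf₂
  have hf₁x : H f₁ x = 1 := by rw [h_swap K x f₁, hxf₁, map_one]
  have hf₂f₂ : H f₂ f₂ = 1 := by
    simp only [hf₂, hal K, har K, hdx.1, hxf₁, hf₁x, hf₁f₁]
    linear_combination h2 K
  have hf₁f₂ : H f₁ f₂ = 0 := by rw [hf₂, har K, hf₁x, hf₁f₁, addself' K]
  have hf₂e : H f₂ e = 0 := by rw [hf₂, hal K, hxe, hf₁e, add_zero]
  obtain ⟨f₃, f₄, hf⟩ := exists_frame_three K hf₁f₁ hf₂f₂ hee hf₁f₂ hf₁e hf₂e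
  have hxsum : x = f₁ + f₂ := by rw [hf₂, add_comm x f₁, ← add_assoc, addself K, zero_add]
  set y := (ω + 1) • f₁ + ω • f₂ with hy
  set u := f₃ + f₄ with hu
  set v := (ω + 1) • f₃ + ω • f₄ with hv
  have hω1 : ω + 1 ≠ 0 := by rw [← hω]; exact (map_ne_zero K.bar).2 hω0
  have e21 := Geom.hz K hf.ab
  have e31 := Geom.hz K hf.ac
  have e41 := Geom.hz K hf.ad
  have e32 := Geom.hz K hf.bc
  have e42 := Geom.hz K hf.bd
  have e43 := Geom.hz K hf.cd
  have ee1 := Geom.hz K hf.ae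
  have ee2 := Geom.hz K hf.be
  have ee3 := Geom.hz K hf.ce
  have ee4 := Geom.hz K hf.de
  have hωn : ω * (ω + 1) = 1 := by linear_combination hωω + ω * h2 K
  have hyy : H y y = 0 := by
    simp only [hy, hal K, har K, hsl K, hsr K, hf.aa, hf.bb, hf.ab, e21, map_add, map_one, hω]
    linear_combination 2 * hωn + (ω + 1) * h2 K * 0 + h2 K + (ω + 1) * h2 K
  have hxy : H x y = 1 := by
    simp only [hxsum, hy, hal K, har K, hsr K, hf.aa, hf.bb, hf.ab, e21, map_add, map_one, hω]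
    linear_combination (ω + 1) * h2 K
  have huu : H u u = 0 := by
    simp only [hu, hal K, har K, hf.cc, hf.dd, hf.cd, e43]
    linear_combination h2 K
  have hvv : H v v = 0 := by
    simp only [hv, hal K, har K, hsl K, hsr K, hf.cc, hf.dd, hf.cd, e43, map_add, map_one, hω]
    linear_combination 2 * hωn + (ω + 1) * h2 K * 0 + h2 K + (ω + 1) * h2 K
  have huv : H u v = 1 := by
    simp only [hu, hv, hal K, har K, hsr K, hf.cc, hf.dd, hf.cd, e43, map_add, map_one, hω]
    linear_combination (ω + 1) * h2 K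
  have hxu : H x u = 0 := by simp only [hxsum, hu, hal K, har K, hf.ac, hf.ad, hf.bc, hf.bd, add_zero]
  have hxv : H x v = 0 := by
    simp only [hxsum, hv, hal K, har K, hsr K, hf.ac, hf.ad, hf.bc, hf.bd, mul_zero, add_zero]
  have hyu : H y u = 0 := by
    simp only [hy, hu, hal K, har K, hsl K, hf.ac, hf.ad, hf.bc, hf.bd, mul_zero, add_zero]
  have hyv : H y v = 0 := by
    simp only [hy, hv, hal K, har K, hsl K, hsr K, hf.ac, hf.ad, hf.bc, hf.bd, mul_zero, add_zero]
  have hye : H y e = 0 := by simp only [hy, hal K, hsl K, hf.ae, hf.be, mul_zero, add_zero]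
  have hue : H u e = 0 := by simp only [hu, hal K, hf.ce, hf.de, add_zero]
  have hve : H v e = 0 := by simp only [hv, hal K, hsl K, hf.ce, hf.de, mul_zero, add_zero]
  have hne : ∀ {a b : M}, H a b = 1 → a ≠ 0 ∧ b ≠ 0 := fun {a b} h =>
    ⟨fun e => by rw [e, Geom.hz K (h0r K b)] at h; exact zero_ne_one h,
     fun e => by rw [e, h0r K] at h; exact zero_ne_one h⟩
  have hy0 : y ≠ 0 := (hne hxy).2
  have hv0 : v ≠ 0 := (hne huv).2
  have hpv : H (x + u) v = 1 := by rw [hal K, hxv, huv, zero_add]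
  -- lifts
  obtain ⟨t1, ht1⟩ := exists_tr K (v := x + u)
    (show H (x + u) (x + u) = 0 by simp only [hal K, har K, hdx.1, huu, hxu, Geom.hz K hxu, add_zero])
  obtain ⟨ty, hty⟩ := exists_tr K hyy
  obtain ⟨tu, htu⟩ := exists_tr K huu
  obtain ⟨tv, htv⟩ := exists_tr K hvv
  obtain ⟨dy, hdy, ey⟩ := exists_lift K (by norm_num) S hy0 hty
  obtain ⟨du, hdu, eu⟩ := exists_lift K (by norm_num) S (hne huv).1 htu
  obtain ⟨dv, hdv, ev⟩ := exists_lift K (by norm_num) S hv0 htv
  obtain ⟨d1, hd1, e1⟩ := exists_lift K (by norm_num) S (hne hpv).1 ht1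
  obtain ⟨hh, ⟨hc3, hc4, hce, hfixh⟩, hhW, -⟩ :=
    exists_scal_lift K S hab hsq hω0 hω hωω hf.cc hf.dd hee hf.cd hf.ce hf.de
  obtain ⟨kk, ⟨ka, kb, ke, hfixk⟩, hkW, -⟩ :=
    exists_scal_lift K S hab hsq hω0 hω hωω hf₁f₁ hf₂f₂ hee hf₁f₂ hf₁e hf₂e
  have hπz : π z = π kk * π hh :=
    zeta_unique hzz (zeta_of_frame K hω0 hω hωω hf ⟨ka, kb, ke, hfixk⟩ ⟨hc3, hc4, hce, hfixh⟩)
  have hcomm : ∀ {a b : M} {p r : G}, IsTr (π p) a → IsTr (π r) b → H a b = 0 →
      Commute (π p) (π r) := fun hp hr h => tr_commute_tr K hp hr h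
  have hncomm : ∀ {a b : M} {p r : G}, IsTr (π p) a → IsTr (π r) b → H a b = 1 → b ≠ 0 →
      ¬ Commute (π p) (π r) := by
    intro a b p r hp hr h hb hc
    have h1 := hr.2 a
    rw [h, one_smul] at h1
    have h2' := tr_conj K hp (π r)
    rw [h1, ← hc.eq, mul_inv_cancel_right] at h2'
    have h3 := h2'.2 b
    rw [hp.2, har K, h_swap K a b, h, map_one, hr.1, add_zero, one_smul, one_smul,
      add_right_inj, left_eq_add] at h3
    exact hb h3
  have tY : IsTr (π dy) y := ey ▸ hty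
  have tU : IsTr (π du) u := eu ▸ htu
  have tV : IsTr (π dv) v := ev ▸ htv
  have T1 : IsTr (π d1) (x + u) := e1 ▸ ht1
  -- the effects
  have hwk := S.W_map hd hw
  set wy := w * (dy * w * dy) with hwy
  have hwyW : wy ∈ W π dy := beta_mem S hab hsq hdy hwk
  have hwyk := S.W_map hdy hwyW
  set w1 := wy * (d1 * wy * d1) with hw1
  have hw1W : w1 ∈ W π d1 := beta_mem S hab hsq hd1 hwyk
  have hw1k := S.W_map hd1 hw1W
  set wv := w1 * (dv * w1 * dv) with hwv
  have hwvW : wv ∈ W π dv := beta_mem S hab hsq hdv hw1k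
  have hwvk := S.W_map hdv hwvW
  have hzy : Commute z wy :=
    beta_fix S hab hsq hdy (zeta_commute_tr K hω0 hzz tY hye) hwk hzw
  have hz1 : Commute z w1 := beta_fix S hab hsq hd1
    (zeta_commute_tr K hω0 hzz T1 (by rw [hal K, hxe, hue, add_zero])) hwyk hzy
  have hzv : Commute z wv :=
    beta_fix S hab hsq hdv (zeta_commute_tr K hω0 hzz tV hve) hw1k hz1
  have hhy : Commute hh wy := hhW dy hdy y tY
    (by simp only [hy, hal K, hsl K, hf.ac, hf.bc, mul_zero, add_zero])
    (by simp only [hy, hal K, hsl K, hf.ad, hf.bd, mul_zero, add_zero]) hye wy hwyW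
  have hkv : Commute kk wv := hkW dv hdv v tV
    (by simp only [hv, hal K, hsl K, e31, e41, mul_zero, add_zero])
    (by simp only [hv, hal K, hsl K, e32, e42, mul_zero, add_zero]) hve wv hwvW
  have hhv : Commute hh wv := by
    refine mul_inv_eq_iff_eq_mul.1 ?_
    have e := act_congr hab (g := z) (g' := kk * hh) (by rw [map_mul, hπz]) hwvk
    rw [mul_inv_eq_iff_eq_mul.2 hzv.eq] at e
    calc hh * wv * hh⁻¹ = kk⁻¹ * (kk * hh * wv * (kk * hh)⁻¹) * kk := by group
      _ = wv := by rw [← e, mul_assoc, ← hkv.eq, inv_mul_cancel_left]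
  have hround : w1 = wv * (d1 * wv * d1) := by
    have h := S.round hab hd1 hdv (hncomm T1 tV hpv hv0) hw1W
    rw [← hwv] at h
    have hk' : d1 * wv * d1 ∈ π.ker := by
      have := Subgroup.Normal.conj_mem (inferInstance : π.ker.Normal) wv hwvk d1
      rwa [S.inv_eq hd1] at this
    rw [← h, (hab _ hk' _ hwvk).eq]
  -- rotating the middle point
  set d2 := hh * d1 * hh⁻¹ with hd2def
  set d3 := hh * d2 * hh⁻¹ with hd3def
  have hd2 : d2 ∈ D := S.conj hd1 hh
  have hd3 : d3 ∈ D := S.conj hd2 hh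
  have hhx : app (π hh) x = x := hfixh x
    (by simp only [hxsum, hal K, hf.ac, hf.bc, add_zero])
    (by simp only [hxsum, hal K, hf.ad, hf.bd, add_zero]) hxe
  have hhu : app (π hh) u = ω • u := by rw [hu, app_add, hc3, hc4, smul_add]
  have T2 : IsTr (π d2) (x + ω • u) := by
    have := tr_conj K T1 (π hh)
    rwa [app_add, hhx, hhu, ← map_inv, ← map_mul, ← map_mul] at this
  have T3 : IsTr (π d3) (x + (ω + 1) • u) := by
    have := tr_conj K T2 (π hh)
    rwa [app_add, hhx, app_smul, hhu, smul_smul, hωω, ← map_inv, ← map_mul, ← map_mul] at this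
  have hrot : ∀ {p a : G}, Commute hh a → hh * (a * (p * a * p)) * hh⁻¹ =
      a * (hh * p * hh⁻¹ * a * (hh * p * hh⁻¹)) := by
    intro p a hc
    have h : hh * a * hh⁻¹ = a := mul_inv_eq_iff_eq_mul.2 hc.eq
    calc hh * (a * (p * a * p)) * hh⁻¹
        = hh * a * hh⁻¹ * (hh * p * hh⁻¹ * (hh * a * hh⁻¹) * (hh * p * hh⁻¹)) := by group
      _ = _ := by rw [h]
  have hA2 : wy * (d2 * wy * d2) = wv * (d2 * wv * d2) := by
    rw [← hrot (p := d1) hhy, ← hrot (p := d1) hhv, ← hw1, ← hround]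
  have hA3 : wy * (d3 * wy * d3) = wv * (d3 * wv * d3) := by
    rw [← hrot (p := d2) hhy, ← hrot (p := d2) hhv, hA2]
  -- the five points of the line
  have hl : ∀ p ∈ [d, d1, d2, d3, du], p ∈ D := by simp [hd, hd1, hd2, hd3, hdu]
  have hcentre : ∀ p ∈ [d, d1, d2, d3, du], ∃ a b : F, IsTr (π p) (a • x + b • u) := by
    intro p hp
    simp only [List.mem_cons, List.not_mem_nil, or_false] at hp
    rcases hp with rfl | rfl | rfl | rfl | rfl
    exacts [⟨1, 0, by simpa using hdx⟩, ⟨1, 1, by simpa using T1⟩, ⟨1, ω, by simpa using T2⟩,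
      ⟨1, ω + 1, by simpa using T3⟩, ⟨0, 1, by simpa using tU⟩]
  have hcs : ∀ p ∈ [d, d1, d2, d3, du], ∀ r ∈ [d, d1, d2, d3, du], Commute (π p) (π r) := by
    intro p hp r hr
    obtain ⟨a, b, hpc⟩ := hcentre p hp
    obtain ⟨a', b', hrc⟩ := hcentre r hr
    exact hcomm hpc hrc (by
      simp only [hal K, har K, hsl K, hsr K, hdx.1, huu, hxu, Geom.hz K hxu, mul_zero, add_zero])
  have hprod : [d, d1, d2, d3, du].prod ∈ π.ker := by
    rw [MonoidHom.mem_ker]
    simp only [List.prod_cons, List.prod_nil, mul_one, map_mul, ← mul_assoc]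
    exact five_line K hω hdx.1 huu hxu hdx T1 T2 T3 tU
  have hY := five_beta S hab hsq hl hcs hprod hwyk
  have hV := five_beta S hab hsq hl hcs hprod hwvk
  have hy5 : wy * (du * wy * du) = 1 := by
    have h : Commute du wy := S.W_comm hdy hdu (hcomm tU tY (Geom.hz K hyu)) hwyW
    rw [h.eq, mul_self_cancel_right S.set hdu, hsq _ hwyk]
  have hv0' : wv * (d * wv * d) = 1 := by
    have h : Commute d wv := S.W_comm hdv hd (hcomm hdx tV hxv) hwvW
    rw [h.eq, mul_self_cancel_right S.set hd, hsq _ hwvk]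
  have hy1 : wy * (d * wy * d) = w := by
    have h := S.round hab hd hdy (hncomm hdx tY hxy hy0) hw
    rw [← hwy] at h
    have hk' : d * wy * d ∈ π.ker := by
      have := Subgroup.Normal.conj_mem (inferInstance : π.ker.Normal) wy hwyk d
      rwa [S.inv_eq hd] at this
    rw [← (hab _ hk' _ hwyk).eq]
    exact h
  rw [hy5, mul_one, hy1, ← hw1, hA2, hA3] at hY
  rw [hv0', one_mul, ← hround] at hV
  have hwu : w ∈ W π du := by
    set t := wv * (du * wv * du)
    have ht : t ∈ W π du := beta_mem S hab hsq hdu hwvk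
    set m := w1 * (wv * (d2 * wv * d2) * (wv * (d3 * wv * d3)))
    have e : t = m⁻¹ := eq_inv_of_mul_eq_one_right (by rw [← hV]; simp only [m, mul_assoc])
    have e' : w = m⁻¹ := eq_inv_of_mul_eq_one_left hY
    rwa [e', ← e]
  exact S.free hd hdy (hncomm hdx tY hxy hy0) hw
    (S.W_comm hdu hdy (hcomm tY tU hyu) hwu)

/-- A lift of an element of order three centralises nothing in the kernel. -/
theorem fixed_eq_one {e : M} (hee : H e e = 1) {z : G} (hzz : IsZeta ω (π z) e) {c : G}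
    (hc : c ∈ π.ker) (hzc : Commute z c) : c = 1 := by
  have hin : ∀ {e : M} {z d : G} {x : M}, H e e = 1 → IsZeta ω (π z) e → Commute z c → d ∈ D →
      x ≠ 0 → IsTr (π d) x → H x e = 0 → Commute d c := by
    intro e z d x hee hzz hzc hd hx0 hdx hxe
    have h := W_zeta K S hab hsq hω0 hω hωω hee hx0 hxe hd hdx hzz (beta_mem S hab hsq hd hc)
      (beta_fix S hab hsq hd (zeta_commute_tr K hω0 hzz hdx hxe) hc hzc)
    have h' : d * c * d = c := by
      rw [eq_inv_of_mul_eq_one_right h, inv_eq_of_mul_eq_one_right (hsq c hc)]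
    show d * c = c * d
    calc d * c = d * c * d * d := (mul_self_cancel_right S.set hd _).symm
      _ = c * d := by rw [h']
  have hall : ∀ d ∈ D, Commute d c := by
    intro d hd
    obtain ⟨x, hx0, hdx⟩ := exists_centre K (by norm_num) S hd
    by_cases hxe : H x e = 0
    · exact hin hee hzz hzc hd hx0 hdx hxe
    set u0 := x + H x e • e with hu0
    have hu0e : H u0 e = 0 := by rw [hu0, hal K, hsl K, hee, mul_one, addself' K]
    have hu00 : H u0 u0 = 1 := by
      simp only [hu0, hal K, har K, hsl K, hsr K, hee, hdx.1, h_swap K x e]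
      linear_combination 3 * (Geom.norm_one K hxe : H x e * K.bar (H x e) = 1) + h2 K
    have hxu : x = u0 + H x e • e := by rw [hu0, add_assoc, addself K, add_zero]
    obtain ⟨e', h1, h1a, h1b, -⟩ :=
      unit_three K (n := 5) le_rfl hu00 hee hu0e (f₁ := u0) (f₂ := e) (f₃ := e)
        (Submodule.subset_span ⟨0, rfl⟩) (Submodule.subset_span ⟨1, rfl⟩)
    obtain ⟨g, f, hfr⟩ := exists_frame_three K h1 hu00 hee h1a h1b hu0e
    obtain ⟨hh, ⟨hcu, hcg, hcf, hfixh⟩, -, hhcomm⟩ :=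
      exists_scal_lift K S hab hsq hω0 hω hωω hfr.bb hfr.cc hfr.dd hfr.bc hfr.bd hfr.cd
    have hhc : Commute hh c := hhcomm c fun d' hd' p hp htp hzp =>
      hin hee hzz hzc hd' hp htp (Geom.hz K (hzp e (Geom.hz K hfr.be) (Geom.hz K hfr.ce)
        (Geom.hz K hfr.de)))
    set z' := z * z * hh * hh with hz'
    have hω3 : ω * (ω * ω) = 1 := cube K hω0
    obtain ⟨Z', hZ'⟩ := exists_zeta K hω0 hω hωω h1
    have hz'z : IsZeta ω (π z') e' := by
      have he' : app (π hh) e = e :=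
        hfixh e (Geom.hz K hfr.be) (Geom.hz K hfr.ce) (Geom.hz K hfr.de)
      have h'' : app (π hh) e' = e' := hfixh e' hfr.ab hfr.ac hfr.ad
      suffices π z' = Z' by rw [this]; exact hZ'
      refine frame_ext K hfr ?_ ?_ ?_ ?_ ?_ <;>
        simp only [hz', map_mul, app_mul, hcu, hcg, hcf, he', h'', hzz _, hZ' _, app_add, app_smul,
          hal K, hsl K, hfr.aa, hfr.bb, hfr.cc, hfr.dd, hfr.ee, hfr.ab, hfr.ac, hfr.ad, hfr.ae, hfr.bc,
          hfr.bd, hfr.be, hfr.cd, hfr.ce, hfr.de, Geom.hz K hfr.ab, Geom.hz K hfr.ac,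
          Geom.hz K hfr.ad, Geom.hz K hfr.ae, Geom.hz K hfr.be, Geom.hz K hfr.ce, Geom.hz K hfr.de,
          mul_zero, add_zero, zero_smul, one_smul] <;>
        match_scalars <;> (have h2' : (2 : F) = 0 := h2 K; grind)
    have hxe' : H x e' = 0 := by
      rw [hxu, hal K, hsl K, Geom.hz K hfr.ab, Geom.hz K hfr.ae, mul_zero, add_zero]
    exact hin h1 hz'z (((hzc.mul_left hzc).mul_left hhc).mul_left hhc) hd hx0 hdx hxe'
  have hcz : c ∈ Subgroup.center G := by
    refine Subgroup.mem_center_iff.2 fun g => ?_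
    have hle : Subgroup.closure D ≤ Subgroup.centralizer {c} := (Subgroup.closure_le _).2 fun d hd =>
      Subgroup.mem_centralizer_singleton_iff.2 (hall d hd).eq
    exact Subgroup.mem_centralizer_singleton_iff.1 (hle (S.cls.2.2.symm ▸ Subgroup.mem_top g))
  rwa [S.centre, Subgroup.mem_bot] at hcz

end CfsgLib.ThreeTransp.TwoRadical
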