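import Cfsg.Agent.Lib.Classical.UnitaryTrans
import Cfsg.Agent.Lib.Schur.UnitaryGeom
import Cfsg.Agent.Lib.Fischer.UnitaryClass
import Cfsg.Agent.Lib.ThreeTransp.Basic

/-!
Unitary transvections over the field of four elements: they form the only class of 3-transpositions
of `SU_n(2)`, the members commuting with one of two non-commuting members generate, and five
transvections on an isotropic line multiply to one.
-/

set_option autoImplicit false
set_option linter.unusedSectionVars false
set_option linter.style.haveILetI false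

namespace CfsgLib.ThreeTransp.TwoRadical.Geom

open Matrix Cfsg CfsgLib.Classical.Herm
open CfsgLib.ClassicalAut (Unitary.Conj Unitary.space)

variable {F : Type} [Field F] [Fintype F] (K : Unitary.Conj F 2) {n : ℕ}

local notation "H" => hermForm n F 2
local notation "M" => (Fin n → F)

include K

theorem h2 : (2 : F) = 0 := two_eq_zero K rfl

theorem hal (a b c : M) : H (a + b) c = H a c + H b c := (Unitary.space (n := n) K).add_left a b c

theorem har (a b c : M) : H a (b + c) = H a b + H a c := (Unitary.space (n := n) K).add_right a b c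

theorem hsl (t : F) (a c : M) : H (t • a) c = t * H a c := (Unitary.space (n := n) K).smul_left t a c

theorem hsr (t : F) (a c : M) : H a (t • c) = K.bar t * H a c :=
  (Unitary.space (n := n) K).smul_right t a c

theorem hz {a b : M} (h : H a b = 0) : H b a = 0 := (Unitary.space (n := n) K).eq_zero_symm h

theorem h0r (a : M) : H a 0 = 0 := by
  rw [show (0 : M) = (0 : F) • (0 : M) by simp, hsr K, map_zero, zero_mul]

theorem cube {c : F} (hc : c ≠ 0) : c * (c * c) = 1 := by
  have h := FiniteField.pow_card_sub_one_eq_one c hc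
  rw [show Fintype.card F = 4 by rw [← Nat.card_eq_fintype_card, K.card]; norm_num] at h
  linear_combination h

theorem bar_eq (c : F) : K.bar c = c * c := by rw [K.bar_apply, sq]

theorem norm_one {c : F} (hc : c ≠ 0) : c * K.bar c = 1 := by rw [bar_eq K, cube K hc]

theorem norm_one' {c : F} (hc : c ≠ 0) : K.bar c * c = 1 := by rw [mul_comm, norm_one K hc]

theorem real_cases {c : F} (hc : K.bar c = c) : c = 0 ∨ c = 1 := by
  rw [bar_eq K] at hc
  rcases mul_eq_zero.1 (show c * (c - 1) = 0 by linear_combination hc) with h | h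
  · exact Or.inl h
  · exact Or.inr (sub_eq_zero.1 h)

theorem self_cases (v : M) : H v v = 0 ∨ H v v = 1 := real_cases K (h_swap K v v).symm

theorem addself (v : M) : v + v = 0 := by
  rw [← two_smul F v, h2 K, zero_smul]

theorem addself' (a : F) : a + a = 0 := by rw [← two_mul, h2 K, zero_mul]

/-- A generator of the units. -/
theorem exists_omega : ∃ w : F, w ≠ 0 ∧ K.bar w = w + 1 ∧ w * w = w + 1 := by
  obtain ⟨w, hw⟩ := K.exists_moved
  have h0 : w ≠ 0 := fun e => hw (by rw [e, map_zero])
  have h1 : w - 1 ≠ 0 := fun e => hw (by rw [sub_eq_zero.1 e, map_one])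
  have h : w * w + w + 1 = 0 :=
    (mul_eq_zero.1 (show (w - 1) * (w * w + w + 1) = 0 by linear_combination cube K h0)).resolve_left h1
  have h' : w * w = w + 1 := by linear_combination h - (w + 1) * h2 K
  exact ⟨w, h0, (bar_eq K w).trans h', h'⟩

theorem exists_trace {c : F} (hc : K.bar c = c) : ∃ α : F, α + K.bar α = c := by
  rcases real_cases K hc with rfl | rfl
  · exact ⟨0, by rw [map_zero, add_zero]⟩
  · obtain ⟨w, -, hw, -⟩ := exists_omega K
    exact ⟨w, by rw [hw, ← add_assoc, addself' K, zero_add]⟩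

theorem exists_dual {v : M} (hv : v ≠ 0) : ∃ w, H v w = 1 := by
  obtain ⟨x, hx⟩ : ∃ x, H v x ≠ 0 := by
    by_contra hc
    push Not at hc
    exact hv ((Unitary.space (n := n) K).nondeg v fun x => hz K (hc x))
  exact ⟨K.bar (H v x)⁻¹ • x, by rw [hsr K, K.bar_bar, inv_mul_cancel₀ hx]⟩

/-- `g` is the transvection with centre `v`. -/
def IsTr (g : SU n F 2) (v : M) : Prop :=
  hermForm n F 2 v v = 0 ∧ ∀ x, app g x = x + hermForm n F 2 x v • v

theorem isT_iff {g : SU n F 2} {v : M} : IsT K g v 1 ↔ IsTr g v := by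
  refine ⟨fun h => ⟨h.1, fun x => by rw [h.2.2, one_mul]⟩, fun h => ⟨h.1, ?_, fun x => ?_⟩⟩
  · rw [map_one]; exact addself' K 1
  · rw [h.2, one_mul]

theorem exists_tr {v : M} (hv : H v v = 0) : ∃ g : SU n F 2, IsTr g v := by
  obtain ⟨g, hg⟩ := exists_T K (c := 1) hv (by rw [map_one]; exact addself' K 1)
  exact ⟨g, (isT_iff K).1 hg⟩

omit K [Fintype F] in
theorem tr_unique {g g' : SU n F 2} {v : M} (hg : IsTr g v) (hg' : IsTr g' v) : g = g' :=
  ext_app fun x => by rw [hg.2, hg'.2]

theorem tr_smul {g : SU n F 2} {v : M} (hg : IsTr g v) {c : F} (hc : c ≠ 0) : IsTr g (c • v) := by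
  refine ⟨by rw [hsl K, hsr K, hg.1, mul_zero, mul_zero], fun x => ?_⟩
  rw [hg.2, hsr K, smul_smul, mul_right_comm, norm_one' K hc, one_mul]

theorem tr_conj {t : SU n F 2} {v : M} (ht : IsTr t v) (g : SU n F 2) :
    IsTr (g * t * g⁻¹) (app g v) := by
  refine ⟨by rw [h_app]; exact ht.1, fun x => ?_⟩
  obtain ⟨y, rfl⟩ : ∃ y, x = app g y := ⟨app g⁻¹ x, (app_inv' g x).symm⟩
  rw [app_mul, app_mul, app_inv, ht.2, app_add, app_smul, h_app]

theorem tr_sq {t : SU n F 2} {v : M} (ht : IsTr t v) : t * t = 1 :=
  ext_app fun x => by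
    rw [app_mul, app_one, ht.2, ht.2, hal K, hsl K, ht.1, mul_zero, add_zero, add_assoc,
      addself K, add_zero]

theorem tr_inv {t : SU n F 2} {v : M} (ht : IsTr t v) : t⁻¹ = t :=
  inv_eq_of_mul_eq_one_right (tr_sq K ht)

theorem tr_fix {t : SU n F 2} {v : M} (ht : IsTr t v) {x : M} (hx : H x v = 0) : app t x = x := by
  rw [ht.2, hx, zero_smul, add_zero]

theorem tr_commute {t g : SU n F 2} {v : M} (ht : IsTr t v) (hg : app g v = v) : Commute g t :=
  mul_inv_eq_iff_eq_mul.1 (tr_unique (hg ▸ tr_conj K ht g) ht)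

theorem tr_commute_tr {s t : SU n F 2} {v w : M} (hs : IsTr s v) (ht : IsTr t w) (h : H v w = 0) :
    Commute s t := tr_commute K ht (tr_fix K hs (hz K h))

theorem tr_braid {s t : SU n F 2} {v w : M} (hs : IsTr s v) (ht : IsTr t w) (h : H v w ≠ 0) :
    s * t * s = t * s * t := by
  have e1 := tr_conj K ht s
  have e2 := tr_conj K hs t
  rw [tr_inv K hs, hs.2] at e1
  rw [tr_inv K ht, ht.2] at e2
  have hk : H w v = K.bar (H v w) := h_swap K v w
  rw [hk] at e1
  have hb : K.bar (H v w) ≠ 0 := (map_ne_zero K.bar).2 h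
  have e2' := tr_smul K e2 hb
  rw [smul_add, smul_smul, norm_one' K h, one_smul, add_comm] at e2'
  exact tr_unique e1 e2'

theorem tr_ne_one {t : SU n F 2} {v : M} (ht : IsTr t v) (hv : v ≠ 0) : t ≠ 1 := by
  intro e
  obtain ⟨w, hw⟩ := exists_dual K hv
  have h := ht.2 w
  rw [e, app_one, h_swap K v w, hw, map_one, one_smul, left_eq_add] at h
  exact hv h

theorem rank_eq [DecidableEq F] {t : SU n F 2} {v : M} (hv : v ≠ 0) (ht : IsTr t v) :
    ((t.1 : Matrix (Fin n) (Fin n) F) - 1).rank = 1 := by
  have hM : (t.1 : Matrix (Fin n) (Fin n) F) - 1 = vecMulVec v (fun i => v i ^ 2) :=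
    CfsgLib.Fischer.sub_eq_of_apply fun x => by
      refine (ht.2 x).trans ?_
      congr 2
      simp only [hermForm, dotProduct, mul_comm]
  rw [hM]
  refine CfsgLib.Fischer.rank_vecMulVec_eq_one hv fun e => hv (funext fun i => ?_)
  exact (pow_eq_zero_iff (by norm_num)).1 (congrFun e i)

/-- An involution has a vector moved to a partner of itself. -/
theorem exists_step {t : SU n F 2} (ht : t * t = 1) (hne : t ≠ 1) :
    ∃ u a : M, app t u = u + a ∧ H a u = 1 ∧ H a a = 0 ∧ app t a = a := by
  have htt : ∀ z, app t (app t z) = z := fun z => by rw [← app_mul, ht, app_one]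
  have hsym : ∀ a b, H (app t a + a) b = H a (app t b + b) := fun a b => by
    rw [hal K, har K]
    congr 1
    rw [← h_app t, htt]
  obtain ⟨u, hu⟩ : ∃ u, H (app t u + u) u ≠ 0 := by
    by_contra hall
    push Not at hall
    refine hne (ext_app fun x => ?_)
    have h0 : app t x + x = 0 := (Unitary.space (n := n) K).nondeg _ fun b => by
      refine hz K ?_
      have e1 := hall (x + b)
      rw [app_add, show app t x + app t b + (x + b) = app t x + x + (app t b + b) by abel, hal K,
        har K, har K, hall x, hall b] at e1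
      obtain ⟨w, hw0, hwb, -⟩ := exists_omega K
      have e2 := hall (x + w • b)
      rw [app_add, app_smul, show app t x + w • app t b + (x + w • b) =
        app t x + x + w • (app t b + b) by rw [smul_add]; abel, hal K, har K, har K, hsr K, hsr K,
        hsl K, hsl K, hall x, hall b, hwb] at e2
      linear_combination e2 - w * e1
    rw [app_one, eq_comm, ← sub_eq_zero]
    rw [sub_eq_add_neg, show -app t x = app t x from neg_eq_of_add_eq_zero_right (addself K _),
      add_comm, h0]
  refine ⟨u, app t u + u, ?_, ?_, ?_, ?_⟩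
  · rw [add_comm (app t u) u, ← add_assoc, addself K, zero_add]
  · refine (real_cases K ?_).resolve_left hu
    rw [← h_swap K, hsym]
  · rw [hsym, app_add, htt, show u + app t u + (app t u + u) = app t u + u + (app t u + u) by abel,
      addself K, h0r K]
  · rw [app_add, htt, add_comm]

omit K [Fintype F] in
/-- Conjugacy of two commuting pairs on a path of length four. -/
theorem five_cycle {a b c d R : SU n F 2} (hb : b * b = 1) (hd : d * d = 1)
    (ha : a * a = 1) (hc : c * c = 1) (hac : Commute a c) (had : Commute a d) (hbd : Commute b d)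
    (hba : a * b * a = b * a * b) (hdc : c * d * c = d * c * d)
    (hRa : Commute R a) (hRb : Commute R b) (hRc : Commute R c) (hRd : Commute R d) :
    ∃ g : SU n F 2, g * (b * d * R) * g⁻¹ = a * c * R := by
  refine ⟨(a * b * c * d)⁻¹, ?_⟩
  have hinv : (a * b * c * d)⁻¹ = d * c * b * a := by
    refine inv_eq_of_mul_eq_one_right ?_
    calc a * b * c * d * (d * c * b * a) = a * b * c * (d * d) * c * b * a := by group
      _ = a * b * (c * c) * b * a := by rw [hd, mul_one]; group
      _ = a * (b * b) * a := by rw [hc, mul_one]; group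
      _ = 1 := by rw [hb, mul_one, ha]
  have h1 : d * c * b * a * b * a * b * c * d = a := by
    calc d * c * b * a * b * a * b * c * d = d * c * b * (a * b * a) * b * c * d := by group
      _ = d * c * (b * b) * a * (b * b) * c * d := by rw [hba]; group
      _ = d * (c * a) * c * d := by rw [hb]; group
      _ = d * a * (c * c) * d := by rw [← hac.eq]; group
      _ = a * (d * d) := by rw [hc, ← had.eq]; group
      _ = a := by rw [hd, mul_one]
  have h2 : d * c * b * a * d * a * b * c * d = c := by
    calc d * c * b * a * d * a * b * c * d = d * c * b * (a * d) * a * b * c * d := by group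
      _ = d * c * b * d * (a * a) * b * c * d := by rw [had.eq]; group
      _ = d * c * (b * d) * b * c * d := by rw [ha]; group
      _ = d * c * d * (b * b) * c * d := by rw [hbd.eq]; group
      _ = d * (c * d * c) * d := by rw [hb]; group
      _ = (d * d) * c * (d * d) := by rw [hdc]; group
      _ = c := by rw [hd, one_mul, mul_one]
  have h3 : Commute R (a * b * c * d) := ((hRa.mul_right hRb).mul_right hRc).mul_right hRd
  rw [inv_inv, mul_assoc _ (b * d * R) _, mul_assoc (b * d) R, h3.eq, hinv]
  calc d * c * b * a * (b * d * (a * b * c * d * R))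
      = (d * c * b * a * b * (a * b * c * d)) * ((a * b * c * d)⁻¹ * d * (a * b * c * d)) * R := by
        group
    _ = a * c * R := by
        rw [hinv, show d * c * b * a * b * (a * b * c * d) = d * c * b * a * b * a * b * c * d by group,
          h1, show d * c * b * a * d * (a * b * c * d) = d * c * b * a * d * a * b * c * d by group, h2]

set_option maxHeartbeats 800000 in
/-- A class of 3-transpositions consists of transvections. -/
theorem class_tr (hn : 4 ≤ n) {E : Set (SU n F 2)} (hE : IsThreeTranspositionClass E)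
    {t : SU n F 2} (ht : t ∈ E) : ∃ v : M, v ≠ 0 ∧ IsTr t v := by
  have htt := mul_self_eq_one hE.1 ht
  obtain ⟨u, a, hu, hau, haa, hta⟩ := exists_step K htt (ne_one_of_mem hE.1 ht)
  have ha0 : a ≠ 0 := by
    rintro rfl
    rw [show (0 : M) = (0 : F) • u by simp, hsl K, zero_mul] at hau
    exact zero_ne_one hau
  obtain ⟨b, hb⟩ := exists_tr K haa
  have hua : H u a = 1 := by rw [h_swap K a u, hau, map_one]
  have hbt : Commute t b := tr_commute K hb hta
  have hbb := tr_sq K hb
  set t' := t * b with ht'
  have ht'2 : t' * t' = 1 := by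
    rw [ht', show t * b * (t * b) = t * (b * t) * b by group, ← hbt.eq,
      show t * (t * b) * b = t * t * (b * b) by group, htt, hbb, one_mul]
  rcases eq_or_ne t' 1 with he | he
  · refine ⟨a, ha0, ?_⟩
    rw [ht', mul_eq_one_iff_eq_inv, tr_inv K hb] at he
    rwa [he]
  exfalso
  have ht'u : app t' u = u := by
    rw [ht', app_mul, hb.2, hua, one_smul, app_add, hu, hta, add_assoc, addself K, add_zero]
  have ht'a : app t' a = a := by rw [ht', app_mul, tr_fix K hb haa, hta]
  obtain ⟨u₀, a', hu₀, ha'u₀, ha'a', ht'a'⟩ := exists_step K ht'2 he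
  have ha'sym : ∀ {x : M}, app t' x = x → H a' x = 0 := fun {x} hx => by
    have h : H (app t' u₀) x = H u₀ x := by conv_lhs => rw [← hx]; rw [h_app]
    rwa [hu₀, hal K, add_eq_left] at h
  have ha'a := ha'sym ht'a
  have ha'u := ha'sym ht'u
  set u' := u₀ + H u₀ a • u with hu'def
  have hu'a : H u' a = 0 := by rw [hu'def, hal K, hsl K, hua, mul_one, addself' K]
  have hu' : app t' u' = u' + a' := by rw [hu'def, app_add, app_smul, hu₀, ht'u]; abel
  have ha'u' : H a' u' = 1 := by rw [hu'def, har K, hsr K, ha'u, ha'u₀, mul_zero, add_zero]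
  have hu'a' : H u' a' = 1 := by rw [h_swap K a' u', ha'u', map_one]
  obtain ⟨d, hd⟩ := exists_tr K ha'a'
  have hdt' : Commute t' d := tr_commute K hd ht'a'
  have hdd := tr_sq K hd
  set R := t' * d with hR
  have hR2 : R * R = 1 := by
    rw [hR, show t' * d * (t' * d) = t' * (d * t') * d by group, ← hdt'.eq,
      show t' * (t' * d) * d = t' * t' * (d * d) by group, ht'2, hdd, one_mul]
  have hRu : app R u = u := by rw [hR, app_mul, tr_fix K hd (hz K ha'u), ht'u]
  have hRa : app R a = a := by rw [hR, app_mul, tr_fix K hd (hz K ha'a), ht'a]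
  have hRa' : app R a' = a' := by rw [hR, app_mul, tr_fix K hd ha'a', ht'a']
  have hRu' : app R u' = u' := by
    rw [hR, app_mul, hd.2, hu'a', one_smul, app_add, hu', ht'a', add_assoc, addself K, add_zero]
  obtain ⟨α, hα⟩ := exists_trace K (c := H u u) (h_swap K u u).symm
  set f₁ := u + α • a with hf₁
  obtain ⟨β, hβ⟩ := exists_trace K (c := H u' u') (h_swap K u' u').symm
  set f₂ := u' + β • a' + H u' u • a with hf₂
  have haa' : H a a' = 0 := hz K ha'a
  have huaβ : H a u' = 0 := hz K hu'a
  have hua' : H u a' = 0 := hz K ha'u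
  have h11 : H f₁ f₁ = 0 := by
    simp only [hf₁, hal K, har K, hsl K, hsr K, hua, hau, haa]
    linear_combination hα + H u u * h2 K
  have h1a : H f₁ a = 1 := by simp only [hf₁, hal K, hsl K, hua, haa]; ring
  have h1a' : H f₁ a' = 0 := by simp only [hf₁, hal K, hsl K, hua', haa']; ring
  have h2a : H f₂ a = 0 := by simp only [hf₂, hal K, hsl K, hu'a, ha'a, haa]; ring
  have h2a' : H f₂ a' = 1 := by simp only [hf₂, hal K, hsl K, hu'a', ha'a', haa']; ring
  have h21 : H f₂ f₁ = 0 := by
    simp only [hf₂, hf₁, hal K, har K, hsl K, hsr K, hu'a, ha'u, ha'a, hau, haa]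
    linear_combination H u' u * h2 K
  have h22 : H f₂ f₂ = 0 := by
    simp only [hf₂, hal K, har K, hsl K, hsr K, hu'a, ha'u', ha'a', ha'a, hu'a', huaβ, haa', haa]
    linear_combination hβ + H u' u' * h2 K
  obtain ⟨A, hA⟩ := exists_tr K h11
  set y := f₁ + f₂ with hy
  have hyy : H y y = 0 := by
    simp only [hy, hal K, har K, h11, h22, h21, hz K h21, add_zero]
  obtain ⟨C, hC⟩ := exists_tr K hyy
  have hRf₁ : app R f₁ = f₁ := by rw [hf₁, app_add, app_smul, hRu, hRa]
  have hRy : app R y = y := by
    rw [hy, app_add, hRf₁, hf₂, app_add, app_add, app_smul, app_smul, hRu', hRa', hRa]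
  have hAC : Commute A C := tr_commute_tr K hA hC (by rw [hy, har K, h11, hz K h21, add_zero])
  have hAd : Commute A d := tr_commute_tr K hA hd h1a'
  have hbd : Commute b d := tr_commute_tr K hb hd haa'
  have hya : H y a = 1 := by rw [hy, hal K, h1a, h2a, add_zero]
  have hya' : H y a' = 1 := by rw [hy, hal K, h1a', h2a', zero_add]
  have hn1 : H f₁ a ≠ 0 := by rw [h1a]; exact one_ne_zero
  have hn2 : H y a' ≠ 0 := by rw [hya']; exact one_ne_zero
  have htR : t = b * d * R := by
    rw [hR, ht', hbt.eq]
    have : Commute d (b * t) := by rw [← hbt.eq, ← ht']; exact hdt'.symm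
    rw [show b * d * (b * t * d) = b * (d * (b * t)) * d by group, this.eq,
      show b * (b * t * d) * d = b * b * t * (d * d) by group, hbb, hdd, one_mul, mul_one]
  have hRb := tr_commute K hb hRa
  have hRd := tr_commute K hd hRa'
  have hRA := tr_commute K hA hRf₁
  have hRC := tr_commute K hC hRy
  obtain ⟨g, hg⟩ := five_cycle hbb hdd (tr_sq K hA) (tr_sq K hC) hAC hAd hbd
    (tr_braid K hA hb hn1) (tr_braid K hC hd hn2) hRA hRb hRC hRd
  rw [← htR] at hg
  have ht'' : A * C * R ∈ E := hg ▸ class_conjClosed hE g t ht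
  set P := b * d * A * C with hP
  have hprod : t * (A * C * R) = P := by
    rw [htR, show b * d * R * (A * C * R) = b * d * (R * (A * C)) * R by group,
      (hRA.mul_right hRC).eq, show b * d * (A * C * R) * R = b * d * A * C * (R * R) by group,
      hR2, mul_one]
  have hev : ∀ z, app P z = app b (app d (app A (app C z))) := fun z => by
    rw [hP, app_mul, app_mul, app_mul]
  have h11' : H f₁ f₂ = 0 := hz K h21
  have hP1 : app P a = a + a' + f₂ := by
    rw [hev, hC.2, h_swap K y a, hya, map_one, one_smul, app_add, hA.2, h_swap K f₁ a, h1a, map_one,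
      one_smul, tr_fix K hA (x := y) (by rw [hy, hal K, h11, h21, add_zero])]
    simp only [app_add, tr_fix K hd haa', tr_fix K hd h1a', hd.2 y, hya', one_smul, tr_fix K hb haa,
      tr_fix K hb ha'a, hb.2 f₁, h1a, hb.2 y, hya]
    rw [hy, show a + (f₁ + a) + (f₁ + f₂ + a + a') = a + a' + f₂ + ((f₁ + f₁) + (a + a)) by abel,
      addself K, addself K, add_zero, add_zero]
  have hP2 : app P (a + a' + f₂) = y := by
    rw [hev, hC.2 (a + a' + f₂)]
    rw [show H (a + a' + f₂) y = 0 by
      simp only [hal K, h_swap K y a, h_swap K y a', hya, hya', map_one]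
      rw [show H f₂ y = 0 by rw [hy, har K, h21, h22, add_zero], addself' K, add_zero]]
    rw [zero_smul, add_zero, hA.2 (a + a' + f₂)]
    rw [show H (a + a' + f₂) f₁ = 1 by
      simp only [hal K, h_swap K f₁ a, h_swap K f₁ a', h1a, h1a', h21, map_one, map_zero, add_zero]]
    rw [one_smul, hd.2 (a + a' + f₂ + f₁)]
    rw [show H (a + a' + f₂ + f₁) a' = 1 by
      simp only [hal K, haa', ha'a', h2a', h1a', add_zero, zero_add]]
    rw [one_smul, show a + a' + f₂ + f₁ + a' = a + f₁ + f₂ + (a' + a') by abel, addself K, add_zero,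
      hb.2 (a + f₁ + f₂), show H (a + f₁ + f₂) a = 1 by
        simp only [hal K, haa, h1a, h2a, add_zero, zero_add],
      one_smul, show a + f₁ + f₂ + a = f₁ + f₂ + (a + a) by abel, addself K, add_zero, hy]
  have hP3 : H (app P y) a = 1 := by
    rw [hev, tr_fix K hC hyy, tr_fix K hA (x := y) (by rw [hy, hal K, h11, h21, add_zero]),
      hd.2 y, hya', one_smul, hb.2]
    simp only [hal K, hsl K, hya, ha'a, haa, mul_zero, add_zero]
  rcases hE.1.2 t ht _ ht'' with h | h <;> rw [hprod] at h
  · have e := congrArg (fun g => H (app g a) a) h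
    simp only [pow_two, app_mul, app_one, hP1, hP2, hya, haa] at e
    exact one_ne_zero e
  · have e := congrArg (fun g => H (app g a) a) h
    simp only [pow_succ, pow_zero, one_mul, app_mul, app_one, hP1, hP2, hP3, haa] at e
    exact one_ne_zero e

/-- In a class of 3-transpositions every transvection occurs. -/
theorem tr_mem [DecidableEq F] (hn : 4 ≤ n) {E : Set (SU n F 2)} (hE : IsThreeTranspositionClass E)
    {s : SU n F 2} {v : M} (hv : v ≠ 0) (hs : IsTr s v) : s ∈ E := by
  obtain ⟨d₀, hd₀, -⟩ := hE.2.1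
  obtain ⟨w, hw, hd⟩ := class_tr K hn hE hd₀
  have hF : Fintype.card F = 4 := by rw [← Nat.card_eq_fintype_card, K.card]; norm_num
  obtain ⟨g, rfl⟩ := class_exists_conj (CfsgLib.Fischer.unitary_class (n := n) hF hn)
    (a := d₀) (b := s) (rank_eq K hw hd) (rank_eq K hv hs)
  exact class_conjClosed hE g d₀ hd₀

end CfsgLib.ThreeTransp.TwoRadical.Geom
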